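import Cfsg.Agent.Lib.PrimeDegreeUnique.Local

/-!
# The characters induced from the complement and the values of the character of degree `p`
-/

set_option autoImplicit false

noncomputable section

namespace CfsgLib.PrimeDegreeUnique

open Cfsg Subgroup
open scoped ComplexConjugate

local notation "ψ" => ZMod.stdAddChar

namespace Setup

variable {G : Type*} [Group G] [Fintype G] {p : ℕ} [hp : Fact p.Prime] (D : Setup G p)

theorem sum_psi (c : ZMod D.e) : ∑ b : ZMod D.e, ψ (b * c) = if c = 0 then (D.e : ℂ) else 0 := by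
  rw [AddChar.sum_mulShift c (ZMod.isPrimitive_stdAddChar D.e), ZMod.card]
  split_ifs <;> simp

theorem sum_psi' (c : ZMod D.e) : ∑ b : ZMod D.e, ψ (c * b) = if c = 0 then (D.e : ℂ) else 0 :=
  (Finset.sum_congr rfl fun b _ => by rw [mul_comm]).trans (D.sum_psi c)

theorem conj_psi (c : ZMod D.e) : conj (ψ c : ℂ) = ψ (-c) := by
  rw [AddChar.starComp_apply (by rw [ZMod.ringChar_zmod_n]; exact NeZero.pos D.e), AddChar.inv_apply]

theorem psi_pow_e (c : ZMod D.e) : (ψ c : ℂ) ^ D.e = 1 := by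
  rw [← AddChar.map_nsmul_eq_pow, nsmul_eq_mul, ZMod.natCast_self, zero_mul, AddChar.map_zero_eq_one]

theorem e_ne_zero : (D.e : ℂ) ≠ 0 := Nat.cast_ne_zero.mpr (NeZero.ne _)

/-- Induction from `E` of a function of the exponent. -/
def indE (θ : ZMod D.e → ℂ) : G → ℂ := indFun D.E fun x => θ (D.lg x)

theorem indE_el (θ : ZMod D.e → ℂ) {b : ZMod D.e} (hb : b ≠ 0) :
    D.indE θ (D.el b) = θ b + θ (D.k * b) := by
  classical
  set NE := normalizer (D.E : Set G)
  have hterm : ∀ x : G, extendByZero D.E (fun x => θ (D.lg x)) (x⁻¹ * D.el b * x) =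
      (if x ∈ D.E then θ b - θ (D.k * b) else 0) + if x ∈ NE then θ (D.k * b) else 0 := by
    intro x
    have hval : ∀ c, extendByZero D.E (fun x => θ (D.lg x)) (D.el c) = θ c := fun c => by
      rw [CfsgLib.Char.extendByZero_of_mem _ (D.el_mem c), D.lg_el]
    by_cases hx : x ∈ NE
    · rcases D.conj_cases (inv_mem hx) with ⟨h, h'⟩ | ⟨h, h'⟩
      · rw [if_pos hx, if_pos (inv_mem_iff.mp h), show x⁻¹ * D.el b * x = D.el b by simpa using h' b, hval]
        ring
      · rw [if_pos hx, if_neg (fun hx' => h (inv_mem hx')),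
          show x⁻¹ * D.el b * x = D.el (D.k * b) by simpa using h' b, hval, zero_add]
    · have hne : x ∉ D.E := fun h => hx (le_normalizer h)
      rw [if_neg hx, if_neg hne, add_zero, CfsgLib.Char.extendByZero_of_notMem]
      exact fun h => hx (inv_mem_iff.mp (D.mem_normalizer_of_conj hb (g := x⁻¹) (by simpa using h)))
  rw [indE, CfsgLib.Char.indFun_apply, Finset.sum_congr rfl fun x _ => hterm x, Finset.sum_add_distrib,
    ← Finset.sum_filter, ← Finset.sum_filter, Finset.sum_const, Finset.sum_const, nsmul_eq_mul, nsmul_eq_mul,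
    ← Fintype.card_subtype, ← Fintype.card_subtype, ← Nat.card_eq_fintype_card, ← Nat.card_eq_fintype_card,
    D.hNE, Nat.cast_mul, Nat.cast_ofNat, inv_mul_eq_iff_eq_mul₀ (CfsgLib.Char.card_subgroup_ne_zero D.E)]
  ring

theorem isClassFunction_indE (θ : ZMod D.e → ℂ) : IsClassFunction G (D.indE θ) :=
  CfsgLib.Char.isClassFunction_indFun D.E _

theorem indE_conj (θ : ZMod D.e → ℂ) {b : ZMod D.e} (hb : b ≠ 0) {g : G} (hg : IsConj (D.el b) g) :
    D.indE θ g = θ b + θ (D.k * b) := by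
  rw [← D.indE_el θ hb]
  exact (CfsgLib.Char.isClassFunction_iff.mp (D.isClassFunction_indE θ) _ _ hg).symm

theorem indE_one (θ : ZMod D.e → ℂ) : D.indE θ 1 = (D.E.index : ℂ) * θ 0 := by
  rw [indE, CfsgLib.Char.indFun_one]
  simp [D.lg_one]

/-- `g` is conjugate to a non-trivial element of `E`. -/
def InE (g : G) : Prop := ∃ b, b ≠ 0 ∧ IsConj (D.el b) g

theorem indE_off {θ : ZMod D.e → ℂ} (h0 : θ 0 = 0) {g : G} (hg : ¬ D.InE g) : D.indE θ g = 0 := by
  classical
  rw [indE, CfsgLib.Char.indFun_apply, Finset.sum_eq_zero, mul_zero]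
  intro x _
  by_cases hm : x⁻¹ * g * x ∈ D.E
  · rw [CfsgLib.Char.extendByZero_of_mem _ hm]
    obtain ⟨b, hb⟩ := D.exists_el hm
    have hb0 : b = 0 := by
      by_contra h
      exact hg ⟨b, h, isConj_iff.mpr ⟨x, by rw [hb]; group⟩⟩
    rw [show (⟨_, hm⟩ : D.E) = ⟨D.el b, D.el_mem b⟩ from Subtype.ext hb.symm, D.lg_el, hb0, h0]
  · exact CfsgLib.Char.extendByZero_of_notMem _ hm

theorem inner_indE (θ : ZMod D.e → ℂ) {φ : G → ℂ} (hφ : IsClassFunction G φ) :
    classInner (D.indE θ) φ = (D.e : ℂ)⁻¹ * ∑ b : ZMod D.e, θ b * conj (φ (D.el b)) := by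
  classical
  let _ := Fintype.ofFinite D.E
  rw [indE, CfsgLib.Char.frobenius_reciprocity _ _ hφ, CfsgLib.Char.classInner_def]
  congr 1
  exact Fintype.sum_equiv ⟨D.lg, fun b => ⟨D.el b, D.el_mem b⟩, fun x => Subtype.ext (D.el_lg x), D.lg_el⟩
    _ _ fun x => by simp [D.el_lg]

/-- The generalised characters `Ind (1 - λ)`. -/
def F (j : ZMod D.e) : G → ℂ := D.indE fun b => 1 - ψ (j * b)

theorem F_el (j : ZMod D.e) {b : ZMod D.e} (hb : b ≠ 0) :
    D.F j (D.el b) = 2 - ψ (j * b) - ψ (D.k * j * b) := by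
  rw [F, D.indE_el _ hb, show j * (D.k * b) = D.k * j * b by ring]
  ring

theorem F_off (j : ZMod D.e) {g : G} (hg : ¬ D.InE g) : D.F j g = 0 :=
  D.indE_off (by simp) hg

theorem F_one (j : ZMod D.e) : D.F j 1 = 0 := by
  rw [F, D.indE_one]; simp

theorem isGen_F (j : ZMod D.e) : IsGeneralizedCharacter G (D.F j) := by
  let lam : D.E →* ℂ :=
    { toFun := fun x => ψ (j * D.lg x)
      map_one' := by simp [D.lg_one]
      map_mul' := fun x y => by rw [D.lg_mul, mul_add, AddChar.map_add_eq_mul] }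
  exact CfsgLib.Char.isGen_indFun D.E (CfsgLib.Char.isGen_sub CfsgLib.Char.isGen_one
    (CfsgLib.Char.isGen_of_irr (CfsgLib.Char.isIrrCharacter_hom lam)))

theorem isClassFunction_F (j : ZMod D.e) : IsClassFunction G (D.F j) := D.isClassFunction_indE _

theorem inner_F_F {i j : ZMod D.e} (hi : i ≠ 0) (hj : j ≠ 0) :
    classInner (D.F i) (D.F j) = 2 + (if i = j then 1 else 0) + if i = D.k * j then 1 else 0 := by
  rw [show D.F i = D.indE fun b => 1 - ψ (i * b) from rfl, D.inner_indE _ (D.isClassFunction_F j)]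
  have hterm : ∀ b : ZMod D.e, (1 - ψ (i * b)) * conj (D.F j (D.el b)) =
      (2 : ℂ) - ψ (b * -j) - ψ (b * -(D.k * j)) - 2 * ψ (b * i) + ψ (b * (i - j)) + ψ (b * (i - D.k * j)) := by
    intro b
    by_cases hb : b = 0
    · subst hb; simp [D.el_zero, D.F_one]; ring
    rw [D.F_el j hb]
    simp only [map_sub, D.conj_psi, mul_sub, AddChar.map_sub_eq_div, mul_neg]
    simp only [mul_comm b, div_eq_mul_inv, ← AddChar.map_neg_eq_inv]
    rw [map_ofNat]
    ring
  rw [Finset.sum_congr rfl fun b _ => hterm b]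
  simp only [Finset.sum_add_distrib, Finset.sum_sub_distrib, ← Finset.mul_sum, D.sum_psi, neg_eq_zero, hi, hj,
    D.k_mul_eq_zero, sub_eq_zero, Finset.sum_const, Finset.card_univ, ZMod.card, if_false, mul_zero, sub_zero,
    nsmul_eq_mul]
  have := D.e_ne_zero
  split_ifs <;> field_simp <;> ring

theorem inner_one_F {j : ZMod D.e} (hj : j ≠ 0) : classInner (D.F j) (fun _ => 1) = 1 := by
  rw [F, D.inner_indE _ (CfsgLib.Char.isClassFunction_const 1)]
  simp only [map_one, mul_one, Finset.sum_sub_distrib, D.sum_psi', hj, if_false, sub_zero, Finset.sum_const,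
    Finset.card_univ, ZMod.card, nsmul_eq_mul]
  exact inv_mul_cancel₀ D.e_ne_zero

/-- The values on `E` of a character are given by the products with the induced characters. -/
theorem value_el (Z : IrrCharacter G) {b : ZMod D.e} (hb : b ≠ 0) :
    (Z : G → ℂ) (D.el b) = -∑ j : ZMod D.e, ψ (j * b) * classInner (D.F j) Z := by
  have hcl := CfsgLib.Char.isClassFunction_of_isIrr Z.2
  have h1 : ∑ j : ZMod D.e, ψ (j * b) * classInner (D.F j) Z =
      (D.e : ℂ)⁻¹ * ∑ c : ZMod D.e, ((∑ j : ZMod D.e, ψ (j * b)) - ∑ j : ZMod D.e, ψ (j * (b + c))) *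
        conj ((Z : G → ℂ) (D.el c)) := by
    simp only [show ∀ j, D.F j = D.indE fun b => 1 - ψ (j * b) from fun _ => rfl, D.inner_indE _ hcl,
      Finset.mul_sum, Finset.sum_mul, ← Finset.sum_sub_distrib, mul_add, AddChar.map_add_eq_mul]
    rw [Finset.sum_comm]
    exact Finset.sum_congr rfl fun c _ => Finset.sum_congr rfl fun j _ => by ring
  rw [h1]
  simp only [D.sum_psi, hb, if_false, zero_sub]
  rw [Finset.sum_eq_single (-b)]
  · rw [if_pos (add_neg_cancel b), D.el_neg, CfsgLib.Char.char_inv (CfsgLib.Char.isCharacter_of_isIrr Z.2),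
      Complex.conj_conj]
    have := D.e_ne_zero
    field_simp
  · intro c _ hc
    rw [if_neg (fun h => hc (eq_neg_of_add_eq_zero_right h))]
    simp
  · simp

/-! ### The character of degree `p` -/

theorem chi_psing {g : G} (hg : p ∣ orderOf g) : (D.χ : G → ℂ) g = 0 := by
  refine CfsgLib.Char.vanish_of_defect_zero D.χ.2 (n := 1) hp.out ?_ ?_ D.deg (by simp) hg
  · rw [pow_one]; exact hg.trans (orderOf_dvd_natCard g)
  · intro h
    have h1 := h.trans D.dvd_fact
    rw [pow_succ, pow_one] at h1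
    have h2 : ¬ p * p ∣ p.factorial := by
      intro h3
      obtain ⟨q, hq⟩ := Nat.exists_eq_succ_of_ne_zero hp.out.ne_zero
      rw [hq, Nat.factorial_succ] at h3
      have h4 : p ∣ q.factorial := hq ▸ Nat.dvd_of_mul_dvd_mul_left (Nat.succ_pos q) h3
      rw [hp.out.dvd_factorial] at h4
      omega
    exact h2 h1

theorem chi_int (g : G) : ∃ m : ℤ, (D.χ : G → ℂ) g = m := by
  refine CfsgLib.CharBlocks.exists_int_of_fixed (CfsgLib.Char.char_isIntegral (CfsgLib.Char.isCharacter_of_isIrr D.χ.2) g) fun σ => ?_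
  obtain ⟨χ', hχ'⟩ := CfsgLib.Blocks.PrimeBlock.exists_galois_image σ D.χ
  have h : χ' = D.χ := D.uniq χ' (by rw [congrFun hχ' 1, D.deg, map_natCast])
  rw [h] at hχ'
  exact (congrFun hχ' g).symm

theorem conj_chi (g : G) : conj ((D.χ : G → ℂ) g) = (D.χ : G → ℂ) g := by
  obtain ⟨m, hm⟩ := D.chi_int g
  rw [hm, map_intCast]

theorem chi_mul_el {b : ZMod D.e} (hb : b ≠ 0) {x : G} (hx : x ∈ (D.P : Subgroup G)) :
    (D.χ : G → ℂ) (x * D.el b) = (D.χ : G → ℂ) (D.el b) := by
  obtain ⟨y, -, hy⟩ := D.exists_conj_eq hb hx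
  rw [← hy]
  exact CfsgLib.Char.isClassFunction_of_isIrr D.χ.2 _ _

/-- The character of degree `p` takes the value `1` on `E \ 1`. -/
theorem chi_el {b : ZMod D.e} (hb : b ≠ 0) : (D.χ : G → ℂ) (D.el b) = 1 := by
  classical
  obtain ⟨n, ρ, hirr, hρ⟩ := D.χ.2
  let _ := Fintype.ofFinite (D.P : Subgroup G)
  have hcardP : (Fintype.card (D.P : Subgroup G) : ℂ) = p := by
    rw [← Nat.card_eq_fintype_card]; exact_mod_cast D.hP
  have hp0 : (p : ℂ) ≠ 0 := Nat.cast_ne_zero.mpr hp.out.ne_zero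
  obtain ⟨Pr, hPr⟩ : ∃ Pr : Module.End ℂ (Fin n → ℂ), Pr = (p : ℂ)⁻¹ • ∑ x : (D.P : Subgroup G), ρ x := ⟨_, rfl⟩
  have hPx : ∀ x : (D.P : Subgroup G), ρ x * Pr = Pr := fun x => by
    rw [hPr, mul_smul_comm, Finset.mul_sum]
    congr 1
    exact Fintype.sum_equiv (Equiv.mulLeft x) _ _ fun y => by simp [map_mul]
  have hidem : LinearMap.IsProj (LinearMap.range Pr) Pr := by
    refine ⟨fun x => LinearMap.mem_range_self Pr x, ?_⟩
    rintro _ ⟨x, rfl⟩
    rw [← Module.End.mul_apply]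
    congr 1
    nth_rewrite 1 [hPr]
    rw [smul_mul_assoc, Finset.sum_mul, Finset.sum_congr rfl fun x _ => hPx x, Finset.sum_const, Finset.card_univ,
      ← Nat.cast_smul_eq_nsmul ℂ, hcardP, smul_smul, inv_mul_cancel₀ hp0, one_smul]
  have htr : ∀ c : ZMod D.e, LinearMap.trace ℂ _ (ρ (D.el c) * Pr) =
      if c = 0 then 1 else (D.χ : G → ℂ) (D.el c) := by
    intro c
    rw [hPr, mul_smul_comm, map_smul, Finset.mul_sum, map_sum]
    have hterm : ∀ x : (D.P : Subgroup G), LinearMap.trace ℂ _ (ρ (D.el c) * ρ x) =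
        (D.χ : G → ℂ) ((x : G) * D.el c) := fun x => by
      rw [← hρ, LinearMap.trace_mul_comm, ← map_mul]; rfl
    rw [Finset.sum_congr rfl fun x _ => hterm x]
    split_ifs with hc
    · subst hc
      simp only [D.el_zero, mul_one, smul_eq_mul]
      rw [Finset.sum_eq_single 1 (fun x _ hx => D.chi_psing (by
        rw [D.orderOf_mem x.2 (fun h => hx (Subtype.ext h))])) (by simp), OneMemClass.coe_one, D.deg,
        inv_mul_cancel₀ hp0]
    · rw [Finset.sum_congr rfl fun x _ => D.chi_mul_el hc x.2, Finset.sum_const, Finset.card_univ, nsmul_eq_mul,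
        hcardP, smul_eq_mul, ← mul_assoc, inv_mul_cancel₀ hp0, one_mul]
  have hfin : Module.finrank ℂ (LinearMap.range Pr) = 1 := by
    have h := htr 0
    rw [D.el_zero, map_one, one_mul, if_pos rfl, hidem.trace] at h
    exact_mod_cast h
  obtain ⟨v, hv0, hv⟩ := finrank_eq_one_iff'.mp hfin
  have heig : ∀ c : ZMod D.e, ∃ m : ℂ, ρ (D.el c) * Pr = m • Pr := by
    intro c
    have hcomm : ρ (D.el c) * Pr = Pr * ρ (D.el c) := by
      rw [hPr, mul_smul_comm, smul_mul_assoc, Finset.mul_sum, Finset.sum_mul]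
      congr 1
      refine Fintype.sum_equiv
        { toFun := fun x : (D.P : Subgroup G) =>
            (⟨D.el c * x * (D.el c)⁻¹, D.conj_mem_P (D.E_le_N (D.el_mem c)) x.2⟩ : (D.P : Subgroup G))
          invFun := fun x : (D.P : Subgroup G) =>
            (⟨D.el (-c) * x * (D.el (-c))⁻¹, D.conj_mem_P (D.E_le_N (D.el_mem _)) x.2⟩ : (D.P : Subgroup G))
          left_inv := fun x => Subtype.ext (by simp [D.el_neg, mul_assoc])
          right_inv := fun x => Subtype.ext (by simp [D.el_neg, mul_assoc]) } _ _ fun x => ?_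
      simp [← map_mul]
    have hmem : ρ (D.el c) v ∈ LinearMap.range Pr := by
      obtain ⟨w, hw⟩ := v.2
      exact ⟨ρ (D.el c) w, by rw [← Module.End.mul_apply, ← hcomm, Module.End.mul_apply, hw]⟩
    obtain ⟨m, hm⟩ := hv ⟨_, hmem⟩
    refine ⟨m, LinearMap.ext fun y => ?_⟩
    obtain ⟨l, hl⟩ := hv ⟨Pr y, LinearMap.mem_range_self Pr y⟩
    have hl' : l • (v : Fin n → ℂ) = Pr y := congrArg Subtype.val hl
    have hm' : m • (v : Fin n → ℂ) = ρ (D.el c) v := congrArg Subtype.val hm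
    rw [Module.End.mul_apply, LinearMap.smul_apply, ← hl', map_smul, ← hm', smul_comm]
  choose m hm using heig
  have hμ : ∀ c, m c = if c = 0 then 1 else (D.χ : G → ℂ) (D.el c) := fun c => by
    rw [← htr c, hm, map_smul, smul_eq_mul, hidem.trace, hfin, Nat.cast_one, mul_one]
  have hmadd : ∀ c c', m (c + c') = m c * m c' := fun c c' => by
    have h : (ρ (D.el (c + c')) * Pr) = (m c * m c') • Pr := by
      rw [D.el_add, map_mul, mul_assoc, hm, mul_smul_comm, hm, smul_smul, mul_comm]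
    rw [hm] at h
    have h' := congrArg (LinearMap.trace ℂ _) h
    rwa [map_smul, map_smul, hidem.trace, hfin, Nat.cast_one, smul_eq_mul, smul_eq_mul, mul_one, mul_one] at h'
  have hm0 : m 0 = 1 := by rw [hμ, if_pos rfl]
  let μ : AddChar (ZMod D.e) ℂ := { toFun := m, map_zero_eq_one' := hm0, map_add_eq_mul' := hmadd }
  -- the determinant at a generator
  obtain ⟨s, hs⟩ : ∃ s : ZMod D.e, m 1 = ψ s := by
    have h1 : m 1 ^ D.e = 1 := by
      rw [show m 1 = μ 1 from rfl, ← AddChar.map_nsmul_eq_pow, nsmul_eq_mul, ZMod.natCast_self, zero_mul,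
        AddChar.map_zero_eq_one]
    have hprim : IsPrimitiveRoot (ψ (1 : ZMod D.e) : ℂ) D.e := by
      rw [show (1 : ZMod D.e) = ((1 : ℤ) : ZMod D.e) by simp, ZMod.stdAddChar_coe]
      simpa using Complex.isPrimitiveRoot_exp D.e (NeZero.ne _)
    obtain ⟨i, -, hi⟩ := hprim.eq_pow_of_pow_eq_one h1
    exact ⟨(i : ZMod D.e), by rw [← hi, ← AddChar.map_nsmul_eq_pow, nsmul_one]⟩
  have hmall : ∀ c, m c = ψ (c * s) := fun c => by
    rw [← ZMod.natCast_zmod_val c, ← nsmul_eq_mul, AddChar.map_nsmul_eq_pow, ← hs, show m 1 = μ 1 from rfl,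
      ← AddChar.map_nsmul_eq_pow, nsmul_one]
    rfl
  obtain ⟨bas, z, hz⟩ := CfsgLib.Char.exists_eigenbasis ρ (D.el 1)
  have hz' : ∀ i, ∃ c : ZMod D.e, z i = ψ c := fun i => by
    have hprim : IsPrimitiveRoot (ψ (1 : ZMod D.e) : ℂ) D.e := by
      rw [show (1 : ZMod D.e) = ((1 : ℤ) : ZMod D.e) by simp, ZMod.stdAddChar_coe]
      simpa using Complex.isPrimitiveRoot_exp D.e (NeZero.ne _)
    have ho : orderOf (D.el 1) ∣ D.e := by
      refine orderOf_dvd_of_pow_eq_one ?_
      rw [← D.el_natCast, ZMod.natCast_self, D.el_zero]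
    obtain ⟨q, hq⟩ := ho
    obtain ⟨i', -, hi'⟩ := hprim.eq_pow_of_pow_eq_one (ξ := z i) (by rw [hq, pow_mul, (hz i).1, one_pow])
    exact ⟨(i' : ZMod D.e), by rw [← hi', ← AddChar.map_nsmul_eq_pow, nsmul_one]⟩
  choose cc hcc using hz'
  have hsum : ∀ r : ZMod D.e, ∑ i, ψ (r * cc i) =
      ψ (r * s) + if r = 0 then (p : ℂ) - 1 else 0 := fun r => by
    have h1 : (D.χ : G → ℂ) (D.el r) = ∑ i, ψ (r * cc i) := by
      rw [← hρ, ← ZMod.natCast_zmod_val r, D.el_natCast]
      refine CfsgLib.Char.trace_eq_sum_eigen bas _ _ fun i => ?_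
      rw [CfsgLib.Char.apply_pow_eigen ρ bas (D.el 1) z (fun i => (hz i).2) r.val i]
      rw [hcc, ← AddChar.map_nsmul_eq_pow, nsmul_eq_mul]
    rw [← h1]
    split_ifs with hr
    · subst hr; rw [D.el_zero, D.deg, zero_mul, AddChar.map_zero_eq_one]; ring
    · rw [← hmall, hμ, if_neg hr, add_zero]
  obtain ⟨q, hq⟩ := D.teven
  have ht : (p - 1 : ℕ) = D.e * (q + q) := by
    rw [← hq]; exact (Nat.mul_div_cancel' D.dvd).symm
  have hcount : ∀ c : ZMod D.e, (Finset.univ.filter fun i => cc i = c).card = (q + q) + if c = s then 1 else 0 := by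
    intro c
    have h1 : (D.e : ℂ) * ((Finset.univ.filter fun i => cc i = c).card : ℂ) =
        ∑ r : ZMod D.e, ψ (r * -c) * ∑ i, ψ (r * cc i) := by
      simp only [Finset.mul_sum, ← AddChar.map_add_eq_mul, ← mul_add]
      rw [Finset.sum_comm]
      simp only [D.sum_psi, neg_add_eq_zero]
      rw [← Finset.sum_filter, Finset.sum_const, nsmul_eq_mul, mul_comm]
      simp only [eq_comm]
    rw [Finset.sum_congr rfl fun (r : ZMod D.e) _ => show ψ (r * -c) * ∑ i, ψ (r * cc i) =
        ψ (r * (-c + s)) + if r = 0 then (p : ℂ) - 1 else 0 by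
      rw [hsum, mul_add (ψ _ : ℂ), mul_add r, AddChar.map_add_eq_mul]
      split_ifs with hr
      · subst hr; simp
      · rw [mul_zero], Finset.sum_add_distrib, D.sum_psi, Finset.sum_ite_eq', if_pos (Finset.mem_univ _)] at h1
    simp only [neg_add_eq_zero] at h1
    have h2 : (p : ℂ) - 1 = (D.e : ℂ) * ((q + q : ℕ) : ℂ) := by
      rw [← Nat.cast_mul, ← ht, Nat.cast_sub hp.out.one_le, Nat.cast_one]
    rw [h2] at h1
    refine Nat.cast_injective (R := ℂ) (mul_left_cancel₀ D.e_ne_zero ?_)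
    rw [h1]
    split_ifs <;> push_cast <;> ring
  have hdet : ∏ i, z i = 1 := by
    have hlin : ((LinearMap.det.comp ρ).toHomUnits) = 1 := MonoidHom.ext fun g =>
      MonoidHom.mem_ker.mp (Abelianization.commutator_subset_ker _ (D.perfect ▸ Subgroup.mem_top g))
    have h1 : LinearMap.det (ρ (D.el 1)) = 1 := by
      simpa using congrArg Units.val (DFunLike.congr_fun hlin (D.el 1))
    have hmat : LinearMap.toMatrix bas bas (ρ (D.el 1)) = Matrix.diagonal z := by
      ext i j
      rw [LinearMap.toMatrix_apply, (hz j).2, map_smul, bas.repr_self, Matrix.diagonal_apply]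
      by_cases h : i = j
      · subst h; simp
      · simp [h, Finsupp.single_eq_of_ne h]
    rw [← Matrix.det_diagonal (d := z), ← hmat, LinearMap.det_toMatrix]
    exact h1
  have htot : ∑ i, cc i = s := by
    rw [← Finset.sum_fiberwise Finset.univ cc]
    have h1 : ∀ c : ZMod D.e, ∑ i ∈ Finset.univ.filter (fun i => cc i = c), cc i =
        ((q : ZMod D.e) + q) * c + if c = s then c else 0 := fun c => by
      rw [Finset.sum_congr rfl fun i hi => (Finset.mem_filter.mp hi).2, Finset.sum_const, hcount, nsmul_eq_mul]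
      split_ifs <;> push_cast <;> ring
    rw [Finset.sum_congr rfl fun c _ => h1 c, Finset.sum_add_distrib, Finset.sum_ite_eq' Finset.univ s,
      if_pos (Finset.mem_univ _), ← Finset.mul_sum]
    have h2 : ∑ c : ZMod D.e, c = -∑ c : ZMod D.e, c := by
      rw [← Finset.sum_neg_distrib]
      exact Fintype.sum_equiv (Equiv.neg _) _ _ fun c => by simp
    have h3 : ((q : ZMod D.e) + q) * ∑ c : ZMod D.e, c = 0 := by
      have h4 : ∑ c : ZMod D.e, c + ∑ c : ZMod D.e, c = 0 := by nth_rewrite 1 [h2]; exact neg_add_cancel _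
      rw [add_mul, ← mul_add, h4, mul_zero]
    rw [h3, zero_add]
  rw [Finset.prod_congr rfl fun i _ => hcc i, show ∏ i, ψ (cc i) = ψ (∑ i, cc i) from (map_prod (ψ : AddChar (ZMod D.e) ℂ).toMonoidHom (fun i => Multiplicative.ofAdd (cc i)) Finset.univ).symm.trans rfl, htot, ← hs] at hdet
  have : m b = 1 := by
    rw [← ZMod.natCast_zmod_val b, show m _ = μ _ from rfl, ← nsmul_one, AddChar.map_nsmul_eq_pow,
      show μ 1 = m 1 from rfl, hdet, one_pow]
  rwa [hμ, if_neg hb] at this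

end Setup

end CfsgLib.PrimeDegreeUnique
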