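import Cfsg.Agent.Lib.PrimeDegreeUnique.Decomp
import Cfsg.Agent.Lib.SmallGroups.BrauerFew.Block

/-!
# The constituents of degree `p + 1`; the sizes of the singular sets
-/

set_option autoImplicit false

noncomputable section

namespace CfsgLib.PrimeDegreeUnique

open Cfsg Subgroup
open scoped ComplexConjugate

local notation "ψ" => ZMod.stdAddChar

namespace Setup

variable {G : Type*} [Group G] [Fintype G] {p : ℕ} [hp : Fact p.Prime] (D : Setup G p)

theorem k_odd (he : Odd D.e) : D.k = -1 := by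
  have hinj : Function.Injective fun j : ZMod D.e => (D.k - 1) * j := fun a b h => by
    have h1 : D.k * (a - b) = a - b := by
      have h' : (D.k - 1) * a = (D.k - 1) * b := h
      linear_combination h'
    have h2 := D.fixed_two h1
    have h3 : IsUnit (2 : ZMod D.e) := by
      rw [show (2 : ZMod D.e) = ((2 : ℕ) : ZMod D.e) by norm_num, ZMod.isUnit_iff_coprime]
      exact Nat.coprime_two_left.mpr he
    rw [← two_mul] at h2
    exact sub_eq_zero.mp (h3.mul_right_eq_zero.mp h2)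
  refine eq_neg_of_add_eq_zero_left (hinj ?_)
  show (D.k - 1) * (D.k + 1) = (D.k - 1) * 0
  have := D.k_sq
  linear_combination this

/-- The element of order two in the exponents, for even `e`. -/
def half : ZMod D.e := ((D.e / 2 : ℕ) : ZMod D.e)

theorem half_ne_zero : D.half ≠ 0 := by
  rw [half, Ne, ZMod.natCast_eq_zero_iff]
  intro h
  have := D.e_two_le
  have := Nat.le_of_dvd (by omega) h
  omega

theorem half_add_half (he : Even D.e) : D.half + D.half = 0 := by
  obtain ⟨q, hq⟩ := he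
  rw [half, ← Nat.cast_add, show D.e / 2 + D.e / 2 = D.e by omega, ZMod.natCast_self]

theorem eq_zero_or_half (he : Even D.e) {j : ZMod D.e} (h : j + j = 0) : j = 0 ∨ j = D.half := by
  rw [← ZMod.natCast_zmod_val j] at h ⊢
  rw [← Nat.cast_add, ZMod.natCast_eq_zero_iff] at h
  obtain ⟨q, hq⟩ := h
  obtain ⟨r, hr⟩ := he
  have hlt : j.val < D.e := j.val_lt
  have hq2 : q < 2 := by
    by_contra hcon
    have := Nat.mul_le_mul_left D.e (not_lt.mp hcon)
    omega
  interval_cases q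
  · left; rw [show j.val = 0 by omega]; simp
  · right; rw [half]; congr 1; omega

theorem k_half (he : Even D.e) : D.k * D.half = D.half := by
  have h := D.half_add_half he
  rcases D.eq_zero_or_half he (j := D.k * D.half) (by rw [← mul_add, h, mul_zero]) with h' | h'
  · exact absurd (D.k_mul_eq_zero.mp h') D.half_ne_zero
  · exact h'

theorem moved_of_ne {j : ZMod D.e} (hj : j + j ≠ 0) : D.k * j ≠ j := fun h => hj (D.fixed_two h)

theorem inner_chi_F {j : ZMod D.e} (hj : j ≠ 0) : classInner (D.F j) (D.χ : G → ℂ) = 1 := by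
  have hcl := CfsgLib.Char.isClassFunction_of_isIrr D.χ.2
  rw [show D.F j = D.indE fun b => 1 - ψ (j * b) from rfl, D.inner_indE _ hcl]
  rw [Finset.sum_congr rfl fun b _ => show (1 - ψ (j * b)) * conj ((D.χ : G → ℂ) (D.el b)) = 1 - ψ (j * b) by
    by_cases hb : b = 0
    · subst hb; simp
    · rw [D.chi_el hb, map_one, mul_one]]
  simp only [Finset.sum_sub_distrib, D.sum_psi', hj, if_false, sub_zero, Finset.sum_const,
    Finset.card_univ, ZMod.card, nsmul_eq_mul, mul_one]
  exact inv_mul_cancel₀ D.e_ne_zero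

theorem chi_ne_one : (D.χ : G → ℂ) ≠ fun _ => 1 := fun h => by
  have h1 := congrFun h 1
  rw [D.deg] at h1
  exact hp.out.ne_one (by exact_mod_cast h1)

/-- The constituent of degree `p + 1`. -/
def W (j : ZMod D.e) : G → ℂ := fun g => 1 + (D.χ : G → ℂ) g - D.F j g

theorem W_one (j : ZMod D.e) : D.W j 1 = p + 1 := by
  rw [W, D.F_one, D.deg]; ring

theorem W_el (j : ZMod D.e) {b : ZMod D.e} (hb : b ≠ 0) :
    D.W j (D.el b) = ψ (j * b) + ψ (D.k * j * b) := by
  rw [W, D.chi_el hb, D.F_el j hb]; ring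

theorem W_off (j : ZMod D.e) {g : G} (hg : ¬ D.InE g) : D.W j g = 1 + (D.χ : G → ℂ) g := by
  rw [W, D.F_off j hg, sub_zero]

theorem W_eq (j : ZMod D.e) : D.W j = (fun _ => (1 : ℂ)) + (D.χ : G → ℂ) - D.F j := rfl

theorem inner_chi_one : classInner (D.χ : G → ℂ) (fun _ => 1) = 0 :=
  CfsgLib.Char.classInner_irr_ne D.χ.2 CfsgLib.Char.isIrrCharacter_one D.chi_ne_one

theorem inner_one_chi : classInner (fun _ : G => (1 : ℂ)) (D.χ : G → ℂ) = 0 :=
  CfsgLib.Char.classInner_irr_ne CfsgLib.Char.isIrrCharacter_one D.χ.2 D.chi_ne_one.symm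

theorem isIrr_W {j : ZMod D.e} (hj : D.k * j ≠ j) : IsIrrCharacter G (D.W j) := by
  have hj0 : j ≠ 0 := fun h => hj (by rw [h, mul_zero])
  refine CfsgLib.Char.gen_norm_one_pos ?_ ?_ ?_
  · rw [D.W_eq]
    exact CfsgLib.Char.isGen_sub (CfsgLib.Char.isGen_add CfsgLib.Char.isGen_one
      (CfsgLib.Char.isGen_of_irr D.χ.2)) (D.isGen_F j)
  · have h1 := D.inner_one_F hj0
    have h2 := D.inner_chi_F hj0
    have h3 : classInner (fun _ : G => (1 : ℂ)) (D.F j) = 1 := by
      rw [← CfsgLib.Char.classInner_conj_symm, h1, map_one]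
    have h4 : classInner (D.χ : G → ℂ) (D.F j) = 1 := by
      rw [← CfsgLib.Char.classInner_conj_symm, h2, map_one]
    have h5 : classInner (fun _ : G => (1 : ℂ)) (fun _ : G => (1 : ℂ)) = 1 :=
      CfsgLib.Char.classInner_irr_self CfsgLib.Char.isIrrCharacter_one
    rw [D.W_eq]
    simp only [CfsgLib.Char.classInner_sub_left, CfsgLib.Char.classInner_sub_right, CfsgLib.Char.classInner_add_left,
      CfsgLib.Char.classInner_add_right, h1, h2, h3, h4, h5, D.inner_chi_one, D.inner_one_chi,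
      CfsgLib.Char.classInner_irr_self D.χ.2, D.inner_F_F hj0 hj0, if_true, if_neg hj.symm]
    ring
  · rw [D.W_one, Complex.add_re, Complex.natCast_re, Complex.one_re]
    positivity

/-- `W j` as an irreducible character. -/
def Wc (j : ZMod D.e) (hj : D.k * j ≠ j) : IrrCharacter G := ⟨D.W j, D.isIrr_W hj⟩

theorem F_eq (j : ZMod D.e) : D.F j = (fun _ => (1 : ℂ)) + (D.χ : G → ℂ) - D.W j := by
  rw [D.W_eq]; abel

theorem W_inj {i j : ZMod D.e} (hi : D.k * i ≠ i) (hj : D.k * j ≠ j) (h : D.W i = D.W j) :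
    i = j ∨ i = D.k * j := by
  have hi0 : i ≠ 0 := fun h => hi (by rw [h, mul_zero])
  have hj0 : j ≠ 0 := fun h => hj (by rw [h, mul_zero])
  have h1 := D.inner_F_F hi0 hj0
  rw [D.F_eq i, h, ← D.F_eq j, D.inner_F_F hj0 hj0, if_pos rfl, if_neg hj.symm] at h1
  by_contra hcon
  push Not at hcon
  rw [if_neg hcon.1, if_neg hcon.2] at h1
  norm_num at h1

theorem W_kmul {j : ZMod D.e} : D.W (D.k * j) = D.W j := by
  funext g
  by_cases hg : D.InE g
  · obtain ⟨b, hb, hconj⟩ := hg
    have h : ∀ i, D.F i g = D.F i (D.el b) := fun i =>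
      (CfsgLib.Char.isClassFunction_iff.mp (D.isClassFunction_F i) _ _ hconj).symm
    simp only [W, h, D.F_el _ hb, ← mul_assoc, D.k_sq, one_mul]
    ring
  · rw [D.W_off _ hg, D.W_off _ hg]

theorem inner_F_eq_zero {Z : IrrCharacter G} (h1 : (Z : G → ℂ) ≠ fun _ => 1) (hχ : Z ≠ D.χ)
    {j : ZMod D.e} (hj : D.k * j ≠ j) (hW : (Z : G → ℂ) ≠ D.W j) : classInner (D.F j) (Z : G → ℂ) = 0 := by
  rw [D.F_eq, CfsgLib.Char.classInner_sub_left, CfsgLib.Char.classInner_add_left,
    CfsgLib.Char.classInner_irr_ne CfsgLib.Char.isIrrCharacter_one Z.2 h1.symm,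
    CfsgLib.Char.classInner_irr_ne D.χ.2 Z.2 (fun h => hχ (Subtype.ext h.symm)),
    CfsgLib.Char.classInner_irr_ne (D.isIrr_W hj) Z.2 hW.symm]
  ring

theorem F_zero : D.F 0 = 0 := by
  funext g
  by_cases hg : D.InE g
  · obtain ⟨b, hb, hconj⟩ := hg
    rw [(CfsgLib.Char.isClassFunction_iff.mp (D.isClassFunction_F 0) _ _ hconj).symm, D.F_el 0 hb]
    simp
    ring
  · rw [D.F_off 0 hg]; rfl

theorem card_G : Nat.card G = p * D.e * Nat.card (Sylow p G) := by
  rw [CfsgLib.SmallGroups.card_sylow_eq_index D.P, ← D.card_N]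
  exact (Subgroup.card_mul_index _).symm

include D in
theorem succ_le_card_sylow : p + 1 ≤ Nat.card (Sylow p G) := by
  have hmod : Nat.card (Sylow p G) % p = 1 := CfsgLib.SmallGroups.mod_eq_one_card_sylow
  have hne : Nat.card (Sylow p G) ≠ 1 := by
    intro h
    rw [CfsgLib.SmallGroups.card_sylow_eq_index D.P, Subgroup.index_eq_one, Subgroup.normalizer_eq_top_iff] at h
    have := D.simple
    rcases h.eq_bot_or_eq_top with h' | h'
    · have h1 := D.hP
      rw [h', Subgroup.card_bot] at h1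
      exact hp.out.ne_one h1.symm
    · obtain ⟨b, hb⟩ : ∃ b, D.el b ∉ (D.P : Subgroup G) := ⟨1, fun h1 => by
        have h2 : D.el 1 ∈ (D.P : Subgroup G) ⊓ D.E := ⟨h1, D.el_mem 1⟩
        rw [D.hPE, mem_bot] at h2
        have : Fact (1 < D.e) := ⟨D.e_two_le⟩
        exact D.el_ne_one one_ne_zero h2⟩
      exact hb (h' ▸ mem_top _)
  have h := Nat.div_add_mod (Nat.card (Sylow p G)) p
  rw [hmod] at h
  rcases Nat.eq_zero_or_pos (Nat.card (Sylow p G) / p) with h' | h'
  · rw [h', mul_zero] at h; omega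
  · have := Nat.le_mul_of_pos_right p h'; omega

theorem two_e_le : 2 * D.e ≤ p - 1 := by
  obtain ⟨q, hq⟩ := D.teven
  have h : D.e * (q + q) = p - 1 := hq ▸ Nat.mul_div_cancel' D.dvd
  have hq0 : 0 < q := Nat.pos_of_ne_zero (by rintro rfl; simp at h; have := hp.out.two_le; omega)
  have := Nat.le_mul_of_pos_right D.e hq0
  rw [mul_add] at h
  omega

include D in
theorem two_le_deg {Z : IrrCharacter G} (h1 : (Z : G → ℂ) ≠ fun _ => 1) :
    ∃ d : ℕ, 2 ≤ d ∧ (Z : G → ℂ) 1 = d :=
  ⟨_, CfsgLib.SmallGroups.BrauerFew.one_lt_deg D.perfect (fun h => h1 (congrArg Subtype.val h)),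
    CfsgLib.InvolChar.deg_spec Z⟩

end Setup

end CfsgLib.PrimeDegreeUnique
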