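import Cfsg.Agent.Lib.PrimeDegreeUnique.Chars
import Mathlib.GroupTheory.Transfer

/-!
# The action on the complement; the constituents of the induced characters
-/

set_option autoImplicit false

noncomputable section

namespace CfsgLib.PrimeDegreeUnique

open Cfsg Subgroup
open scoped ComplexConjugate

local notation "ψ" => ZMod.stdAddChar

namespace Setup

variable {G : Type*} [Group G] [Fintype G] {p : ℕ} [hp : Fact p.Prime] (D : Setup G p)

/-- The transfer from `N(E)` to `E`, in exponents. -/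
def phi : normalizer (D.E : Set G) →* Multiplicative (ZMod D.e) := by
  classical
  exact MonoidHom.mk'
    (fun g => Multiplicative.ofAdd (if h : (g : G) ∈ D.E then (1 + D.k) * D.lg ⟨g, h⟩
      else D.lg ⟨D.u * D.u, D.u_sq_mem⟩ +
        (1 + D.k) * D.lg ⟨(g : G) * D.u⁻¹, (D.normalizer_cases g.2).resolve_left h⟩))
    (by
      have key : ∀ x y : D.E, ∀ hm : (x : G) * D.u * (y : G) * D.u⁻¹ ∈ D.E,
          D.lg ⟨_, hm⟩ = D.lg x + D.k * D.lg y := by
        intro x y hm
        refine D.el_inj ?_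
        rw [D.el_lg, D.el_add, D.el_lg, ← D.conj_u, D.el_lg]
        group
      have hk : ∀ a : ZMod D.e, (1 + D.k) * (D.k * a) = (1 + D.k) * a := fun a => by
        have := D.k_sq
        linear_combination a * this
      have hu2 : D.k * D.lg ⟨D.u * D.u, D.u_sq_mem⟩ = D.lg ⟨D.u * D.u, D.u_sq_mem⟩ := by
        refine D.el_inj ?_
        rw [← D.conj_u, D.el_lg]
        show D.u * (D.u * D.u) * D.u⁻¹ = D.u * D.u
        group
      rintro ⟨g, hg⟩ ⟨g', hg'⟩
      simp only [← ofAdd_add, EmbeddingLike.apply_eq_iff_eq, coe_mul]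
      by_cases h : g ∈ D.E <;> by_cases h' : g' ∈ D.E
      · rw [dif_pos (mul_mem h h'), dif_pos h, dif_pos h', ← mul_add, ← D.lg_mul]
        rfl
      · rw [dif_neg (fun h2 => h' (by simpa using mul_mem (inv_mem h) h2)), dif_pos h, dif_neg h']
        have he : (⟨g * g' * D.u⁻¹, (D.normalizer_cases (mul_mem hg hg')).resolve_left
            (fun h2 => h' (by simpa using mul_mem (inv_mem h) h2))⟩ : D.E) =
            ⟨g, h⟩ * ⟨g' * D.u⁻¹, (D.normalizer_cases hg').resolve_left h'⟩ := Subtype.ext (mul_assoc _ _ _)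
        rw [he, D.lg_mul]
        ring
      · rw [dif_neg (fun h2 => h (by simpa using mul_mem h2 (inv_mem h'))), dif_neg h, dif_pos h']
        set x : D.E := ⟨g * D.u⁻¹, (D.normalizer_cases hg).resolve_left h⟩
        have hm : (x : G) * D.u * ((⟨g', h'⟩ : D.E) : G) * D.u⁻¹ ∈ D.E := by
          show g * D.u⁻¹ * D.u * g' * D.u⁻¹ ∈ D.E
          rw [inv_mul_cancel_right]
          exact (D.normalizer_cases (mul_mem hg hg')).resolve_left
            (fun h2 => h (by simpa using mul_mem h2 (inv_mem h')))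
        have he : (⟨g * g' * D.u⁻¹, (D.normalizer_cases (mul_mem hg hg')).resolve_left
            (fun h2 => h (by simpa using mul_mem h2 (inv_mem h')))⟩ : D.E) = ⟨_, hm⟩ :=
          Subtype.ext (show g * g' * D.u⁻¹ = g * D.u⁻¹ * D.u * g' * D.u⁻¹ by rw [inv_mul_cancel_right])
        rw [he, key x ⟨g', h'⟩ hm, mul_add, hk]
        ring
      · set x : D.E := ⟨g * D.u⁻¹, (D.normalizer_cases hg).resolve_left h⟩
        set y : D.E := ⟨g' * D.u⁻¹, (D.normalizer_cases hg').resolve_left h'⟩
        have hc : D.u * (y : G) * D.u⁻¹ ∈ D.E := D.conj_u_mem y.2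
        have hmem : g * g' ∈ D.E := by
          have : g * g' = (x : G) * (D.u * (y : G) * D.u⁻¹) * (D.u * D.u) := by
            show g * g' = g * D.u⁻¹ * (D.u * (g' * D.u⁻¹) * D.u⁻¹) * (D.u * D.u)
            group
          rw [this]
          exact mul_mem (mul_mem x.2 hc) D.u_sq_mem
        rw [dif_pos hmem, dif_neg h, dif_neg h']
        have hm : (x : G) * D.u * (y : G) * D.u⁻¹ ∈ D.E := by
          rw [mul_assoc (x : G), mul_assoc (x : G)]
          exact mul_mem x.2 hc
        have he : (⟨g * g', hmem⟩ : D.E) = ⟨_, hm⟩ * ⟨D.u * D.u, D.u_sq_mem⟩ := Subtype.ext (by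
          show g * g' = g * D.u⁻¹ * D.u * (g' * D.u⁻¹) * D.u⁻¹ * (D.u * D.u)
          group)
        rw [he, D.lg_mul, key x y hm, mul_add, mul_add, hk]
        linear_combination hu2)

theorem phi_el (b : ZMod D.e) :
    D.phi ⟨D.el b, le_normalizer (D.el_mem b)⟩ = Multiplicative.ofAdd ((1 + D.k) * b) := by
  simp [phi, D.el_mem, D.lg_el]

/-- A transfer criterion: `E` has no element with the following property. -/
theorem transfer_contra {b : ZMod D.e} (hb : (1 + D.k) * b ≠ 0)
    (hfix : ∀ g, g ∉ normalizer (D.E : Set G) → ∀ l : ℕ, g⁻¹ * D.el b ^ l * g ∈ normalizer (D.E : Set G) →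
      D.el b ^ l = 1) : False := by
  classical
  set H := normalizer (D.E : Set G) with hH
  have hbH : D.el b ∈ H := le_normalizer (D.el_mem b)
  let _ := Fintype.ofFinite (Quotient (MulAction.orbitRel (zpowers (D.el b)) (G ⧸ H)))
  have h1 := MonoidHom.transfer_eq_prod_quotient_orbitRel_zpowers_quot D.phi (D.el b)
  have h2 : MonoidHom.transfer D.phi (D.el b) = 1 :=
    MonoidHom.mem_ker.mp (Abelianization.commutator_subset_ker _ (D.perfect ▸ Subgroup.mem_top _))
  rw [h2] at h1
  set base : G ⧸ H := QuotientGroup.mk 1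
  have hbase : ∀ z : zpowers (D.el b), z • base = base := fun z => by
    show (QuotientGroup.mk ((z : G) * 1) : G ⧸ H) = base
    rw [mul_one, QuotientGroup.eq, mul_one]
    exact inv_mem ((zpowers_le.mpr hbH) z.2)
  set q₀ : Quotient (MulAction.orbitRel (zpowers (D.el b)) (G ⧸ H)) := Quotient.mk _ base
  have hq₀ : q₀.out = base := by
    obtain ⟨z, hz⟩ := MulAction.orbitRel_apply.mp (Quotient.exact q₀.out_eq)
    rw [← hz]; exact hbase z
  rw [Finset.prod_eq_single q₀] at h1
  · have hper : Function.minimalPeriod (fun x => D.el b • x) q₀.out = 1 := by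
      rw [Function.minimalPeriod_eq_one_iff_isFixedPt, hq₀]
      exact hbase ⟨D.el b, mem_zpowers _⟩
    have hout : q₀.out.out ∈ H := by
      have h := QuotientGroup.mk_out_eq_mul H (1 : G)
      obtain ⟨w, hw⟩ := h
      rw [hq₀, show base.out = 1 * (w : G) from hw, one_mul]
      exact w.2
    have h3 : D.phi ⟨_, QuotientGroup.out_conj_pow_minimalPeriod_mem H (D.el b) q₀.out⟩ =
        D.phi ⟨q₀.out.out, hout⟩⁻¹ * D.phi ⟨D.el b, hbH⟩ * D.phi ⟨q₀.out.out, hout⟩ := by
      rw [← map_mul, ← map_mul]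
      congr 1
      refine Subtype.ext ?_
      simp only [hper, pow_one, coe_mul, coe_inv]
    rw [h3, map_inv, mul_comm (D.phi _)⁻¹, inv_mul_cancel_right, D.phi_el] at h1
    exact hb (Multiplicative.ofAdd.injective h1.symm)
  · intro q _ hq
    have hout : q.out.out ∉ H := fun h => hq (by
      rw [← q.out_eq]
      congr 1
      rw [← q.out.out_eq']
      exact QuotientGroup.eq.mpr (by simpa using h))
    have h4 := hfix _ hout _ (QuotientGroup.out_conj_pow_minimalPeriod_mem H (D.el b) q.out)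
    refine (congrArg D.phi (Subtype.ext ?_)).trans (map_one D.phi)
    show (q.out.out)⁻¹ * D.el b ^ _ * q.out.out = 1
    rw [h4, mul_one, inv_mul_cancel]
  · simp

theorem not_fixed_odd {r : ℕ} (hr : r.Prime) (hr2 : r ≠ 2) {j : ZMod D.e} (hj : j ≠ 0) (hrj : r • j = 0)
    (hk : D.k * j = j) : False := by
  have ho : orderOf (D.el j) = r := by
    have := Fact.mk hr
    refine orderOf_eq_prime ?_ (D.el_ne_one hj)
    have h : ∀ n : ℕ, D.el (n • j) = D.el j ^ n := fun n => by
      induction n with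
      | zero => simp [D.el_zero]
      | succ n ih => rw [succ_nsmul, D.el_add, ih, pow_succ]
    rw [← h, hrj, D.el_zero]
  refine D.transfer_contra (b := j) ?_ fun g hg l hl => ?_
  · intro h
    rw [add_mul, one_mul, hk] at h
    have h2 : orderOf (D.el j) ∣ 2 := orderOf_dvd_of_pow_eq_one (by rw [pow_two, ← D.el_add, h, D.el_zero])
    rw [ho] at h2
    exact hr2 ((Nat.prime_dvd_prime_iff_eq hr Nat.prime_two).mp h2)
  · by_contra hne
    have hsq : g⁻¹ * (D.el j ^ l * D.el j ^ l) * g ∈ D.E := by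
      have h := D.u_sq_mem
      have h' : (D.E.subgroupOf (normalizer (D.E : Set G))).index = 2 := D.relIndex_E
      have := mul_self_mem_of_index_two h' ⟨_, hl⟩
      simpa [mem_subgroupOf, mul_assoc] using this
    obtain ⟨c, hc, hc'⟩ : ∃ c, c ≠ 0 ∧ D.el c = D.el j ^ l * D.el j ^ l :=
      D.exists_el' (mul_mem (pow_mem (D.el_mem j) l) (pow_mem (D.el_mem j) l)) fun h1 => by
        rw [← pow_add, ← two_mul] at h1
        have h2 : r ∣ 2 * l := ho ▸ orderOf_dvd_of_pow_eq_one h1
        rcases hr.dvd_mul.mp h2 with h3 | h3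
        · exact hr2 ((Nat.prime_dvd_prime_iff_eq hr Nat.prime_two).mp h3)
        · exact hne (orderOf_dvd_iff_pow_eq_one.mp (ho ▸ h3))
    rw [← hc'] at hsq
    exact hg (inv_mem_iff.mp (D.mem_normalizer_of_conj hc (g := g⁻¹) (by simpa using hsq)))

theorem not_fixed_four {j : ZMod D.e} (h4 : (4 : ℕ) • j = 0) (h2 : (2 : ℕ) • j ≠ 0) (hk : D.k * j = j) :
    False := by
  have hj : j ≠ 0 := fun h => h2 (by rw [h, smul_zero])
  have hw2 : D.el (j + j) = D.el j * D.el j := D.el_add j j
  have hjj : j + j ≠ 0 := by rwa [← two_nsmul]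
  have hkjj : D.k * (j + j) = j + j := by rw [mul_add, hk]
  have ho : orderOf (D.el j) = 4 := by
    refine orderOf_eq_prime_pow (p := 2) (n := 1) ?_ ?_
    · rw [pow_one, pow_two, ← hw2]; exact D.el_ne_one hjj
    · rw [show 2 ^ (1 + 1) = 2 + 2 from rfl, pow_add, pow_two, ← hw2, ← D.el_add,
        show j + j + (j + j) = (4 : ℕ) • j by abel, h4, D.el_zero]
  refine D.transfer_contra (b := j) ?_ fun g hg l hl => ?_
  · rwa [add_mul, one_mul, hk]
  by_contra hne
  have hlE : ∀ h ∈ normalizer (D.E : Set G), h * h ∈ D.E := fun h hh => by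
    have h' : (D.E.subgroupOf (normalizer (D.E : Set G))).index = 2 := D.relIndex_E
    simpa [mem_subgroupOf] using mul_self_mem_of_index_two h' ⟨h, hh⟩
  rcases Nat.even_or_odd l with ⟨q, rfl⟩ | ⟨q, rfl⟩
  · -- the power is the involution
    have hq : D.el j ^ (q + q) = D.el (j + j) := by
      rcases Nat.even_or_odd q with ⟨t, rfl⟩ | ⟨t, rfl⟩
      · exfalso
        refine hne (orderOf_dvd_iff_pow_eq_one.mp ?_)
        rw [ho]; omega
      · rw [show 2 * t + 1 + (2 * t + 1) = 4 * t + 2 by ring, pow_add, pow_mul, ← ho, pow_orderOf_eq_one,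
          one_pow, one_mul, pow_two, hw2]
    rw [hq] at hl
    -- `el j` is central in the normalizer
    have hcent : ∀ h ∈ normalizer (D.E : Set G), h * D.el j * h⁻¹ = D.el j := fun h hh => by
      rcases D.conj_cases hh with ⟨-, hh'⟩ | ⟨-, hh'⟩
      · exact hh' j
      · rw [hh', hk]
    have hz : ∀ h, h * D.el (j + j) = D.el (j + j) * h → h ∈ normalizer (D.E : Set G) := fun h hh =>
      D.mem_normalizer_of_conj hjj (by rw [hh, mul_inv_cancel_right]; exact D.el_mem _)
    have hcomm := hcent _ hl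
    have hmem : g * D.el j * g⁻¹ ∈ normalizer (D.E : Set G) := by
      refine hz _ ?_
      have h5 : g⁻¹ * D.el (j + j) * g * D.el j = D.el j * (g⁻¹ * D.el (j + j) * g) := mul_inv_eq_iff_eq_mul.mp hcomm
      calc g * D.el j * g⁻¹ * D.el (j + j) = g * (D.el j * (g⁻¹ * D.el (j + j) * g)) * g⁻¹ := by group
        _ = g * (g⁻¹ * D.el (j + j) * g * D.el j) * g⁻¹ := by rw [h5]
        _ = _ := by group
    have hsq := hlE _ hmem
    rw [show g * D.el j * g⁻¹ * (g * D.el j * g⁻¹) = g * D.el (j + j) * g⁻¹ by rw [hw2]; group] at hsq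
    exact hg (D.mem_normalizer_of_conj hjj hsq)
  · have hsq := hlE _ hl
    have h6 : D.el j ^ (2 * q + 1) * D.el j ^ (2 * q + 1) = D.el (j + j) := by
      rw [← pow_add, show 2 * q + 1 + (2 * q + 1) = 4 * q + 2 by ring, pow_add, pow_mul, ← ho, pow_orderOf_eq_one,
        one_pow, one_mul, pow_two, hw2]
    rw [show g⁻¹ * D.el j ^ (2 * q + 1) * g * (g⁻¹ * D.el j ^ (2 * q + 1) * g) =
      g⁻¹ * (D.el j ^ (2 * q + 1) * D.el j ^ (2 * q + 1)) * g by group, h6] at hsq
    exact hg (inv_mem_iff.mp (D.mem_normalizer_of_conj hjj (g := g⁻¹) (by simpa using hsq)))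

/-- Only the elements of order at most `2` are fixed. -/
theorem fixed_two {j : ZMod D.e} (hk : D.k * j = j) : j + j = 0 := by
  by_contra hne
  set m := addOrderOf j with hm
  have hm0 : m ≠ 0 := (addOrderOf_pos_iff.mpr (isOfFinAddOrder_of_finite j)).ne'
  have hm2 : ¬ m ∣ 2 := fun h => hne (by rw [← two_nsmul]; exact addOrderOf_dvd_iff_nsmul_eq_zero.mp h)
  have hkn : ∀ n : ℕ, D.k * (n • j) = n • j := fun n => by rw [mul_smul_comm, hk]
  by_cases hr : ∃ r, r.Prime ∧ r ≠ 2 ∧ r ∣ m
  · obtain ⟨r, hr, hr2, q, hq⟩ := hr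
    refine D.not_fixed_odd hr hr2 (j := q • j) ?_ ?_ (hkn q)
    · intro h
      have h1 := addOrderOf_dvd_iff_nsmul_eq_zero.mpr h
      rw [← hm, hq] at h1
      have h2 := Nat.le_of_dvd (Nat.pos_of_ne_zero (by rintro rfl; simp [hq] at hm0)) h1
      have h3 : 2 * q ≤ r * q := Nat.mul_le_mul_right q hr.two_le
      have h4 : 0 < q := Nat.pos_of_ne_zero (by rintro rfl; simp [hq] at hm0)
      omega
    · rw [← mul_nsmul', ← hq, hm, addOrderOf_nsmul_eq_zero]
  · push Not at hr
    obtain ⟨s, hs⟩ : ∃ s, m = 2 ^ s := by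
      exact ⟨_, Nat.eq_prime_pow_of_unique_prime_dvd hm0 fun {d} hd hdm => by
        by_contra h
        exact hr d hd h hdm⟩
    have hs2 : 2 ≤ s := by
      by_contra h
      refine hm2 (hs ▸ ?_)
      interval_cases s <;> simp
    obtain ⟨q, hq⟩ : 4 ∣ m := hs ▸ (Nat.pow_dvd_pow 2 hs2)
    refine D.not_fixed_four (j := q • j) ?_ ?_ (hkn q)
    · rw [← mul_nsmul', ← hq, hm, addOrderOf_nsmul_eq_zero]
    · rw [← mul_nsmul', Ne, ← addOrderOf_dvd_iff_nsmul_eq_zero, ← hm, hq]
      intro h
      have h2 := Nat.le_of_dvd (by omega) h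
      omega

end Setup

end CfsgLib.PrimeDegreeUnique
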