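import Cfsg.Agent.Lib.PrimeDegreeUnique.Const
import Cfsg.Agent.Lib.Char.ClassAlgebra

/-!
# The complement of even order: class multiplication at its involution
-/

set_option autoImplicit false

noncomputable section

namespace CfsgLib.PrimeDegreeUnique

open Cfsg Subgroup
open scoped ComplexConjugate

local notation "ψ" => ZMod.stdAddChar

namespace Setup

variable {G : Type*} [Group G] [Fintype G] {p : ℕ} [hp : Fact p.Prime] (D : Setup G p)

/-- The number of pairs of conjugates of the involution of `E` with product `el b`. -/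
def pairs (b : ZMod D.e) : ℕ :=
  Nat.card {q : G × G // IsConj (D.el D.half) q.1 ∧ IsConj (D.el D.half) q.2 ∧ q.1 * q.2 = D.el b}

theorem centralizer_half (he : Even D.e) :
    centralizer ({D.el D.half} : Set G) = normalizer (D.E : Set G) := by
  refine le_antisymm (fun g hg => ?_) fun g hg => ?_
  · refine D.mem_normalizer_of_conj D.half_ne_zero ?_
    rw [mem_centralizer_singleton_iff.mp hg, mul_inv_cancel_right]
    exact D.el_mem _
  · rw [mem_centralizer_singleton_iff]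
    rcases D.conj_cases hg with ⟨-, h⟩ | ⟨-, h⟩
    · exact mul_inv_eq_iff_eq_mul.mp (h D.half)
    · have := h D.half
      rw [D.k_half he] at this
      exact mul_inv_eq_iff_eq_mul.mp this

theorem card_class_half (he : Even D.e) :
    (Nat.card {x : G // IsConj (D.el D.half) x} : ℂ) = (Nat.card G : ℂ) / (2 * D.e) := by
  rw [eq_div_iff (mul_ne_zero two_ne_zero D.e_ne_zero)]
  have h := CfsgLib.Char.card_isConj_mul_card_centralizer (D.el D.half)
  rw [D.centralizer_half he, D.hNE] at h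
  exact_mod_cast h

theorem sq_eq_one_of_isConj_half (he : Even D.e) {t : G} (ht : IsConj (D.el D.half) t) : t * t = 1 ∧ t ≠ 1 := by
  obtain ⟨c, rfl⟩ := isConj_iff.mp ht
  refine ⟨?_, fun h => D.el_ne_one D.half_ne_zero (conj_eq_one_iff.mp h)⟩
  calc c * D.el D.half * c⁻¹ * (c * D.el D.half * c⁻¹) = c * (D.el D.half * D.el D.half) * c⁻¹ := by group
    _ = 1 := by rw [← D.el_add, D.half_add_half he, D.el_zero, mul_one, mul_inv_cancel]

theorem pairs_le (he : Even D.e) {b : ZMod D.e} (hb : b ≠ 0) : D.pairs b ≤ D.e := by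
  classical
  have key : ∀ q : G × G, IsConj (D.el D.half) q.1 → IsConj (D.el D.half) q.2 → q.1 * q.2 = D.el b →
      q.1 ∈ normalizer (D.E : Set G) ∧ q.1 ∉ D.E := by
    intro q h1 h2 h3
    obtain ⟨ht, ht1⟩ := D.sq_eq_one_of_isConj_half he h1
    obtain ⟨hs, hs1⟩ := D.sq_eq_one_of_isConj_half he h2
    have hinv : q.1⁻¹ = q.1 := inv_eq_of_mul_eq_one_right ht
    have hinv2 : q.2⁻¹ = q.2 := inv_eq_of_mul_eq_one_right hs
    refine ⟨D.mem_normalizer_of_conj hb ?_, fun hE => ?_⟩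
    · have : q.1 * D.el b * q.1⁻¹ = (D.el b)⁻¹ := by
        rw [← h3, mul_inv_rev, hinv, hinv2, ← mul_assoc, ht, one_mul]
      rw [this]
      exact inv_mem (D.el_mem b)
    · obtain ⟨c, hc⟩ := D.exists_el hE
      have hcc : c + c = 0 := D.el_inj (by rw [D.el_add, hc, ht, D.el_zero])
      rcases D.eq_zero_or_half he hcc with rfl | rfl
      · exact ht1 (by rw [← hc, D.el_zero])
      have hq2 : q.2 = D.el (D.half + b) := by
        rw [D.el_add, hc, ← h3, ← mul_assoc, ht, one_mul]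
      have hbb : D.half + b + (D.half + b) = 0 := D.el_inj (by rw [D.el_add, ← hq2, hs, D.el_zero])
      rcases D.eq_zero_or_half he hbb with h | h
      · exact hs1 (by rw [hq2, h, D.el_zero])
      · exact hb (by simpa using h)
  have hcard : Nat.card {t : G // t ∈ normalizer (D.E : Set G) ∧ t ∉ D.E} = D.e := by
    refine (Nat.card_congr (Equiv.ofBijective (fun x : D.E =>
      (⟨(x : G) * D.u, mul_mem (le_normalizer x.2) D.u_mem, fun h => D.u_notMem (by
        simpa using mul_mem (inv_mem x.2) h)⟩ : {t : G // t ∈ normalizer (D.E : Set G) ∧ t ∉ D.E})) ⟨?_, ?_⟩)).symm.trans rfl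
    · exact fun x y h => Subtype.ext (mul_right_cancel (congrArg Subtype.val h))
    · rintro ⟨t, ht, htE⟩
      exact ⟨⟨t * D.u⁻¹, (D.normalizer_cases ht).resolve_left htE⟩, Subtype.ext (inv_mul_cancel_right t D.u)⟩
  rw [pairs, ← hcard]
  refine Nat.card_le_card_of_injective (fun q => (⟨q.1.1, key _ q.2.1 q.2.2.1 q.2.2.2⟩ :
    {t : G // t ∈ normalizer (D.E : Set G) ∧ t ∉ D.E})) fun q q' h => ?_
  have h1 : q.1.1 = q'.1.1 := congrArg Subtype.val h
  have h2 := q.2.2.2.trans q'.2.2.2.symm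
  rw [h1] at h2
  exact Subtype.ext (Prod.ext h1 (mul_left_cancel h2))

/-- The weight of `F j` in the class multiplication sum. -/
def Q (j : ZMod D.e) : ℂ :=
  ∑ Z : IrrCharacter G, classInner (D.F j) (Z : G → ℂ) * (Z : G → ℂ) (D.el D.half) ^ 2 / (Z : G → ℂ) 1

theorem Q_zero : D.Q 0 = 0 := by
  simp [Q, D.F_zero, CfsgLib.Char.classInner_zero_left]

theorem psi_half_sq (he : Even D.e) (b : ZMod D.e) : ψ (b * D.half) ^ 2 = (1 : ℂ) := by
  rw [pow_two, ← AddChar.map_add_eq_mul, ← mul_add, D.half_add_half he, mul_zero, AddChar.map_zero_eq_one]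

theorem psi_half : (ψ D.half : ℂ) ≠ 1 := fun h => D.half_ne_zero
  (ZMod.injective_stdAddChar (h.trans (AddChar.map_zero_eq_one _).symm))

theorem Q_moved (he : Even D.e) {j : ZMod D.e} (hj : D.k * j ≠ j) :
    D.Q j = 1 + 1 / (p : ℂ) - 4 / ((p : ℂ) + 1) := by
  classical
  have hterm : ∀ Z : IrrCharacter G,
      classInner (D.F j) (Z : G → ℂ) * (Z : G → ℂ) (D.el D.half) ^ 2 / (Z : G → ℂ) 1 =
      (if CfsgLib.Char.irrOne = Z then (Z : G → ℂ) (D.el D.half) ^ 2 / (Z : G → ℂ) 1 else 0) +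
        (if D.χ = Z then (Z : G → ℂ) (D.el D.half) ^ 2 / (Z : G → ℂ) 1 else 0) -
        (if D.Wc j hj = Z then (Z : G → ℂ) (D.el D.half) ^ 2 / (Z : G → ℂ) 1 else 0) := fun Z => by
    rw [D.F_eq, show (fun _ : G => (1 : ℂ)) = ((CfsgLib.Char.irrOne : IrrCharacter G) : G → ℂ) from rfl,
      show D.W j = ((D.Wc j hj : IrrCharacter G) : G → ℂ) from rfl, CfsgLib.Char.classInner_sub_left,
      CfsgLib.Char.classInner_add_left, CfsgLib.Char.classInner_irrCharacter, CfsgLib.Char.classInner_irrCharacter,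
      CfsgLib.Char.classInner_irrCharacter]
    split_ifs <;> ring
  rw [Q, Finset.sum_congr rfl fun Z _ => hterm Z, Finset.sum_sub_distrib, Finset.sum_add_distrib,
    Finset.sum_ite_eq Finset.univ, Finset.sum_ite_eq Finset.univ, Finset.sum_ite_eq Finset.univ,
    if_pos (Finset.mem_univ _), if_pos (Finset.mem_univ _), if_pos (Finset.mem_univ _),
    CfsgLib.Char.irrOne_apply, CfsgLib.Char.irrOne_apply, D.chi_el D.half_ne_zero, D.deg,
    show ((D.Wc j hj : IrrCharacter G) : G → ℂ) = D.W j from rfl, D.W_one, D.W_el j D.half_ne_zero,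
    show D.k * j * D.half = j * D.half by rw [mul_right_comm, D.k_half he, mul_comm]]
  rw [show (ψ (j * D.half) + ψ (j * D.half) : ℂ) ^ 2 = 4 * ψ (j * D.half) ^ 2 by ring, D.psi_half_sq he]
  ring

theorem pairs_eq (he : Even D.e) {b : ZMod D.e} (hb : b ≠ 0) :
    (D.pairs b : ℂ) = (Nat.card G : ℂ) / (4 * (D.e : ℂ) ^ 2) *
      ((1 + 1 / (p : ℂ) - 4 / ((p : ℂ) + 1)) * (1 + ψ (D.half * b)) - D.Q D.half * ψ (D.half * b)) := by
  classical
  set Qm : ℂ := 1 + 1 / (p : ℂ) - 4 / ((p : ℂ) + 1)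
  have hnb : -b ≠ 0 := neg_ne_zero.mpr hb
  have hsum : ∑ Z : IrrCharacter G, (Z : G → ℂ) (D.el D.half) * (Z : G → ℂ) (D.el D.half) *
      conj ((Z : G → ℂ) (D.el b)) / (Z : G → ℂ) 1 = -∑ j : ZMod D.e, ψ (j * -b) * D.Q j := by
    simp only [Q, Finset.mul_sum]
    rw [Finset.sum_comm, ← Finset.sum_neg_distrib]
    refine Finset.sum_congr rfl fun Z _ => ?_
    rw [← CfsgLib.Char.char_inv (CfsgLib.Char.isCharacter_of_isIrr Z.2), ← D.el_neg, D.value_el Z hnb]
    rw [mul_neg, neg_div, Finset.mul_sum, Finset.sum_div]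
    exact congrArg Neg.neg (Finset.sum_congr rfl fun j _ => by ring)
  have hQ : ∀ j : ZMod D.e, ψ (j * -b) * D.Q j = ψ (j * -b) * Qm +
      (if j = 0 then -Qm else 0) + (if j = D.half then ψ (D.half * b) * (D.Q D.half - Qm) else 0) := by
    intro j
    by_cases h0 : j = 0
    · subst h0
      rw [D.Q_zero, if_pos rfl, if_neg D.half_ne_zero.symm, zero_mul, AddChar.map_zero_eq_one]
      ring
    rw [if_neg h0]
    by_cases hh : j = D.half
    · subst hh
      have : ψ (D.half * -b) = ψ (D.half * b) := by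
        congr 1
        rw [mul_neg]
        exact neg_eq_of_add_eq_zero_left (by rw [← add_mul, D.half_add_half he, zero_mul])
      rw [if_pos rfl, this]
      ring
    rw [if_neg hh, D.Q_moved he (D.moved_of_ne fun h => (D.eq_zero_or_half he h).elim h0 hh)]
    ring
  rw [pairs, CfsgLib.Char.card_classProduct_eq, D.card_class_half he, hsum, Finset.sum_congr rfl fun j _ => hQ j,
    Finset.sum_add_distrib, Finset.sum_add_distrib, ← Finset.sum_mul, D.sum_psi, if_neg hnb,
    Finset.sum_ite_eq', Finset.sum_ite_eq', if_pos (Finset.mem_univ _), if_pos (Finset.mem_univ _)]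
  have := D.e_ne_zero
  have hG : (Nat.card G : ℂ) ≠ 0 := CfsgLib.Char.card_ne_zero'
  field_simp
  ring

theorem psi_half_one (he : Even D.e) : (ψ (D.half * 1) : ℂ) = -1 := by
  rw [mul_one]
  have h := D.psi_half_sq he 1
  rw [one_mul] at h
  exact (sq_eq_one_iff.mp h).resolve_left D.psi_half

theorem main_even_big (he : Even D.e) (h4 : 4 ≤ D.e) :
    2 * D.e + 1 = p ∧ Nat.card (Sylow p G) = p + 1 := by
  have hone : (1 : ZMod D.e) ≠ 0 := by
    have : Fact (1 < D.e) := ⟨D.e_two_le⟩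
    exact one_ne_zero
  have htwo : (1 + 1 : ZMod D.e) ≠ 0 := by
    rw [show (1 + 1 : ZMod D.e) = ((2 : ℕ) : ZMod D.e) by norm_num, Ne, ZMod.natCast_eq_zero_iff]
    intro h
    have := Nat.le_of_dvd (by norm_num) h
    omega
  have h1 := D.pairs_eq he hone
  have h2 := D.pairs_eq he htwo
  rw [D.psi_half_one he] at h1
  rw [show D.half * (1 + 1) = D.half * 1 + D.half * 1 by ring, AddChar.map_add_eq_mul, D.psi_half_one he] at h2
  have hsum : (((D.pairs 1 + D.pairs (1 + 1)) * (4 * D.e ^ 2) * (p * (p + 1)) : ℕ) : ℂ) =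
      ((2 * Nat.card G * (p - 1) ^ 2 : ℕ) : ℂ) := by
    push_cast [Nat.cast_sub hp.out.one_le]
    rw [h1, h2]
    have := D.e_ne_zero
    have hp0 : (p : ℂ) ≠ 0 := Nat.cast_ne_zero.mpr hp.out.ne_zero
    have hp1 : (p : ℂ) + 1 ≠ 0 := Nat.cast_add_one_ne_zero p
    field_simp
    ring
  have hN : (D.pairs 1 + D.pairs (1 + 1)) * (4 * D.e ^ 2) * (p * (p + 1)) = 2 * Nat.card G * (p - 1) ^ 2 := by
    exact_mod_cast hsum
  have hle := Nat.add_le_add (D.pairs_le he hone) (D.pairs_le he htwo)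
  rw [D.card_G] at hN
  have hX := D.succ_le_card_sylow
  have h2e := D.two_e_le
  set X := Nat.card (Sylow p G)
  set s := D.pairs 1 + D.pairs (1 + 1)
  obtain ⟨w, hw⟩ : ∃ w, w = p - 1 := ⟨_, rfl⟩
  rw [← hw] at hN h2e
  have hpw : p = w + 1 := by have := hp.out.two_le; omega
  have hpe : 0 < p * D.e := Nat.mul_pos hp.out.pos (by omega)
  have h3 : X * w ^ 2 ≤ 4 * D.e ^ 2 * (p + 1) := by
    refine Nat.le_of_mul_le_mul_left (c := 2 * (p * D.e)) ?_ (by omega)
    calc 2 * (p * D.e) * (X * w ^ 2) = s * (4 * D.e ^ 2) * (p * (p + 1)) := by rw [hN]; ring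
      _ ≤ (D.e + D.e) * (4 * D.e ^ 2) * (p * (p + 1)) := by gcongr
      _ = _ := by ring
  have h5 : 4 * D.e ^ 2 ≤ w ^ 2 := by nlinarith
  have hw0 : 0 < w := by omega
  have hXle : X ≤ p + 1 := Nat.le_of_mul_le_mul_right (h3.trans (by rw [mul_comm (p + 1)]; gcongr))
    (pow_pos hw0 2)
  have hXeq : X = p + 1 := le_antisymm hXle hX
  refine ⟨?_, hXeq⟩
  rw [hXeq, mul_comm (4 * D.e ^ 2)] at h3
  have h6 : w ^ 2 ≤ 4 * D.e ^ 2 := Nat.le_of_mul_le_mul_left h3 (by omega)
  nlinarith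

theorem main_even_two (h2 : D.e = 2) : 2 * D.e + 1 = p ∧ Nat.card (Sylow p G) = p + 1 := by
  classical
  have he : Even D.e := h2 ▸ even_two
  have hone : (1 : ZMod D.e) ≠ 0 := by
    have : Fact (1 < D.e) := ⟨D.e_two_le⟩
    exact one_ne_zero
  have hall : ∀ j : ZMod D.e, j = 0 ∨ j = 1 := fun j => by
    have := j.val_lt
    rw [← ZMod.natCast_zmod_val j]
    rcases (show j.val = 0 ∨ j.val = 1 by omega) with h | h <;> simp [h]
  have hh : D.half = 1 := (hall D.half).resolve_left D.half_ne_zero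
  have huniv : (Finset.univ : Finset (ZMod D.e)) = {0, 1} := by
    ext j; simpa using hall j
  set χ₁ : G → ℂ := fun _ => 1
  set θ : G → ℂ := D.F 1 - χ₁ - (D.χ : G → ℂ) with hθ
  have hgen : IsGeneralizedCharacter G θ := CfsgLib.Char.isGen_sub
    (CfsgLib.Char.isGen_sub (D.isGen_F 1) CfsgLib.Char.isGen_one) (CfsgLib.Char.isGen_of_irr D.χ.2)
  obtain ⟨m, hm, hminner, hsq⟩ := CfsgLib.Char.gen_decomp hgen
  have hk1 : D.k * 1 = 1 := by rw [← hh]; exact D.k_half he
  have hFi := D.inner_one_F hone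
  have hFc := D.inner_chi_F hone
  have hFi' : classInner (D.F 1) χ₁ = 1 := hFi
  have hnorm : classInner θ θ = 2 := by
    have h3 : classInner χ₁ (D.F 1) = 1 := by rw [← CfsgLib.Char.classInner_conj_symm, hFi, map_one]
    have h4 : classInner (D.χ : G → ℂ) (D.F 1) = 1 := by rw [← CfsgLib.Char.classInner_conj_symm, hFc, map_one]
    have h5 : classInner χ₁ χ₁ = 1 := CfsgLib.Char.classInner_irr_self CfsgLib.Char.isIrrCharacter_one
    simp only [hθ, CfsgLib.Char.classInner_sub_left, CfsgLib.Char.classInner_sub_right, hFi', hFc, h3, h4, h5,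
      show classInner (D.χ : G → ℂ) χ₁ = 0 from D.inner_chi_one,
      show classInner χ₁ (D.χ : G → ℂ) = 0 from D.inner_one_chi,
      CfsgLib.Char.classInner_irr_self D.χ.2, D.inner_F_F hone hone, hk1, if_true]
    ring
  rw [hnorm] at hsq
  have hsq' : ∑ Z, m Z ^ 2 = 2 := by exact_mod_cast hsq.symm
  set S := Finset.univ.filter fun Z => m Z ≠ 0 with hS
  have hmS : ∀ Z ∈ S, m Z = 1 ∨ m Z = -1 := fun Z hZ => by
    have h1 := Finset.single_le_sum (f := fun Z => m Z ^ 2) (fun _ _ => sq_nonneg _) (Finset.mem_univ Z)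
    rw [hsq'] at h1
    have h3 := (Finset.mem_filter.mp hZ).2
    rcases lt_trichotomy (m Z) 0 with h | h | h
    · right; nlinarith
    · exact absurd h h3
    · left; nlinarith
  have hScard : S.card = 2 := by
    have h1 : ∑ Z, m Z ^ 2 = ∑ Z ∈ S, m Z ^ 2 := (Finset.sum_filter_of_ne (p := fun Z => m Z ≠ 0) fun Z _ h h0 => h (by rw [h0]; ring)).symm
    rw [h1, Finset.sum_congr rfl fun Z hZ => show m Z ^ 2 = 1 by rcases hmS Z hZ with h | h <;> rw [h] <;> norm_num,
      Finset.sum_const, nsmul_one] at hsq'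
    exact_mod_cast hsq'
  obtain ⟨A, B, hAB, hSAB⟩ := Finset.card_eq_two.mp hScard
  have hzero : ∀ Z, Z ∉ S → m Z = 0 := fun Z hZ => by simpa [hS] using hZ
  have hpair : ∀ f : IrrCharacter G → ℂ, ∑ Z, (m Z : ℂ) * f Z = (m A : ℂ) * f A + (m B : ℂ) * f B := fun f => by
    rw [← Finset.sum_subset (Finset.subset_univ S) fun Z _ hZ => by rw [hzero Z hZ]; simp, hSAB,
      Finset.sum_pair hAB]
  have hne : ∀ Z ∈ S, (Z : G → ℂ) ≠ χ₁ ∧ Z ≠ D.χ := fun Z hZ => by
    have h0 := (Finset.mem_filter.mp hZ).2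
    constructor
    · intro h
      refine h0 (Int.cast_injective (α := ℂ) ?_)
      rw [← hminner Z, hθ, CfsgLib.Char.classInner_sub_left, CfsgLib.Char.classInner_sub_left, h, hFi',
        CfsgLib.Char.classInner_irr_self CfsgLib.Char.isIrrCharacter_one,
        show classInner (D.χ : G → ℂ) χ₁ = 0 from D.inner_chi_one]
      simp
    · intro h
      refine h0 (Int.cast_injective (α := ℂ) ?_)
      rw [← hminner Z, hθ, CfsgLib.Char.classInner_sub_left, CfsgLib.Char.classInner_sub_left, h, hFc,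
        CfsgLib.Char.classInner_irr_self D.χ.2, show classInner χ₁ (D.χ : G → ℂ) = 0 from D.inner_one_chi]
      simp
  have hA : A ∈ S := by simp [hSAB]
  have hB : B ∈ S := by simp [hSAB]
  obtain ⟨a, ha2, ha⟩ := D.two_le_deg (hne A hA).1
  obtain ⟨b, hb2, hb⟩ := D.two_le_deg (hne B hB).1
  -- values at the involution
  have hFdec : ∀ Z : IrrCharacter G, classInner (D.F 1) (Z : G → ℂ) =
      (m Z : ℂ) + (if CfsgLib.Char.irrOne = Z then 1 else 0) + (if D.χ = Z then 1 else 0) := fun Z => by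
    rw [← hminner Z, hθ, show χ₁ = ((CfsgLib.Char.irrOne : IrrCharacter G) : G → ℂ) from rfl,
      CfsgLib.Char.classInner_sub_left, CfsgLib.Char.classInner_sub_left, CfsgLib.Char.classInner_irrCharacter,
      CfsgLib.Char.classInner_irrCharacter]
    ring
  have hval : ∀ Z ∈ S, (Z : G → ℂ) (D.el D.half) ^ 2 = 1 := fun Z hZ => by
    rw [D.value_el Z D.half_ne_zero, huniv, Finset.sum_pair hone.symm, D.F_zero, CfsgLib.Char.classInner_zero_left,
      mul_zero, zero_add, neg_sq, mul_pow, D.psi_half_sq he, one_mul, hFdec Z,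
      if_neg (fun h => (hne Z hZ).1 (by rw [← h]; rfl)), if_neg (fun h => (hne Z hZ).2 h.symm), add_zero, add_zero]
    rcases hmS Z hZ with h | h <;> rw [h] <;> simp
  have hQh : D.Q D.half = 1 + 1 / (p : ℂ) + ((m A : ℂ) / a + (m B : ℂ) / b) := by
    rw [Q, hh]
    simp only [hFdec]
    simp only [add_mul, add_div, ite_mul, one_mul, zero_mul, ite_div, zero_div, Finset.sum_add_distrib,
      Finset.sum_ite_eq, Finset.mem_univ, if_true, mul_div_assoc]
    rw [hpair fun Z => (Z : G → ℂ) (D.el 1) ^ 2 / (Z : G → ℂ) 1, ← hh, hval A hA, hval B hB, ha, hb,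
      CfsgLib.Char.irrOne_apply, CfsgLib.Char.irrOne_apply, D.chi_el D.half_ne_zero, D.deg]
    ring
  have hdeg : (m A : ℤ) * a + m B * b = -((p : ℤ) + 1) := by
    have h1 := congrFun hm 1
    simp only [Finset.sum_apply, Pi.smul_apply, smul_eq_mul, hpair (fun Z => (Z : G → ℂ) 1), ha, hb, hθ,
      Pi.sub_apply, D.F_one, D.deg, χ₁] at h1
    have h2 : (((m A : ℤ) * a + m B * b : ℤ) : ℂ) = ((-((p : ℤ) + 1) : ℤ) : ℂ) := by
      push_cast; rw [← h1]; ring
    exact_mod_cast h2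
  have hp4 : 5 ≤ p := by
    obtain ⟨q, hq⟩ := D.teven
    rw [show Nat.card D.E = 2 from h2] at hq
    have := D.three_le
    by_contra h
    rcases (show p = 3 ∨ p = 4 by omega) with h' | h'
    · rw [h'] at hq; omega
    · exact absurd (h' ▸ hp.out) (by norm_num)
  have hlow : -((p : ℝ) + 1) / (2 * ((p : ℝ) - 1)) ≤ (m A : ℝ) / a + (m B : ℝ) / b := by
    have hpR : (5 : ℝ) ≤ p := by exact_mod_cast hp4
    have haR : (2 : ℝ) ≤ a := by exact_mod_cast ha2
    have hbR : (2 : ℝ) ≤ b := by exact_mod_cast hb2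
    have hdR : (m A : ℝ) * a + (m B : ℝ) * b = -((p : ℝ) + 1) := by exact_mod_cast hdeg
    have hpos : -((p : ℝ) + 1) / (2 * ((p : ℝ) - 1)) ≤ 0 :=
      div_nonpos_of_nonpos_of_nonneg (by linarith) (by linarith)
    rcases hmS A hA with hA1 | hA1 <;> rcases hmS B hB with hB1 | hB1 <;> rw [hA1, hB1] at hdR ⊢ <;>
      push_cast at hdR ⊢
    · linarith
    · refine hpos.trans ?_
      have : (1 : ℝ) / b ≤ 1 / a := one_div_le_one_div_of_le (by linarith) (by linarith)
      rw [neg_div]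
      linarith
    · refine hpos.trans ?_
      have : (1 : ℝ) / a ≤ 1 / b := one_div_le_one_div_of_le (by linarith) (by linarith)
      rw [neg_div]
      linarith
    · rw [show (-1 : ℝ) / a + -1 / b = -((a + b) / (a * b)) by field_simp; ring,
        show -((p : ℝ) + 1) / (2 * ((p : ℝ) - 1)) = -(((p : ℝ) + 1) / (2 * ((p : ℝ) - 1))) by ring, neg_le_neg_iff,
        show (a : ℝ) + b = (p : ℝ) + 1 by linarith]
      refine div_le_div_of_nonneg_left (by linarith) (by linarith) ?_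
      nlinarith [mul_nonneg (show (0 : ℝ) ≤ a - 2 by linarith) (show (0 : ℝ) ≤ b - 2 by linarith)]
  have h1 := D.pairs_eq he hone
  rw [D.psi_half_one he, hQh] at h1
  have h1' : (D.pairs 1 : ℝ) = (Nat.card G : ℝ) / (4 * (D.e : ℝ) ^ 2) *
      (1 + 1 / (p : ℝ) + ((m A : ℝ) / a + (m B : ℝ) / b)) := by
    refine Complex.ofReal_injective ?_
    push_cast
    rw [h1]
    ring
  have hle : (D.pairs 1 : ℝ) ≤ 2 := by
    have := (D.pairs_le he hone).trans h2.le
    exact_mod_cast this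
  have hX := D.succ_le_card_sylow
  have hG : (Nat.card G : ℝ) = p * 2 * (Nat.card (Sylow p G) : ℝ) := by
    rw [D.card_G, h2]; push_cast; ring
  have hbound : (Nat.card (Sylow p G) : ℝ) * (((p : ℝ) - 2) * ((p : ℝ) + 1)) ≤ 32 * ((p : ℝ) - 1) := by
    have hpR : (5 : ℝ) ≤ p := by exact_mod_cast hp4
    have h3 : (Nat.card G : ℝ) / (4 * (D.e : ℝ) ^ 2) *
        (1 + 1 / (p : ℝ) + -((p : ℝ) + 1) / (2 * ((p : ℝ) - 1))) ≤ 2 := by
      refine le_trans ?_ hle
      rw [h1']
      refine mul_le_mul_of_nonneg_left ?_ (by positivity)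
      linarith
    rw [hG, h2] at h3
    have h4 : (p : ℝ) * 2 * (Nat.card (Sylow p G) : ℝ) / (4 * (2 : ℝ) ^ 2) *
        (1 + 1 / (p : ℝ) + -((p : ℝ) + 1) / (2 * ((p : ℝ) - 1))) =
        (Nat.card (Sylow p G) : ℝ) * (((p : ℝ) - 2) * ((p : ℝ) + 1)) / (16 * ((p : ℝ) - 1)) := by
      have : (p : ℝ) - 1 ≠ 0 := by linarith
      field_simp
      ring
    push_cast at h3
    rw [h4, div_le_iff₀ (by linarith)] at h3
    linarith
  have hp5 : p = 5 := by
    by_contra hne
    have hpR : (7 : ℝ) ≤ p := by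
      have : p ≠ 6 := fun h => by rw [h] at hp; exact absurd hp.out (by norm_num)
      exact_mod_cast (show 7 ≤ p by omega)
    have hXR : (p : ℝ) + 1 ≤ (Nat.card (Sylow p G) : ℝ) := by exact_mod_cast hX
    nlinarith [mul_le_mul_of_nonneg_right hXR (mul_nonneg (show (0 : ℝ) ≤ (p : ℝ) - 2 by linarith)
      (show (0 : ℝ) ≤ (p : ℝ) + 1 by linarith))]
  refine ⟨by omega, ?_⟩
  have hmod : Nat.card (Sylow p G) % p = 1 := CfsgLib.SmallGroups.mod_eq_one_card_sylow
  have h7 : Nat.card (Sylow p G) ≤ 7 := by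
    have hpR : (p : ℝ) = 5 := by exact_mod_cast hp5
    rw [hpR] at hbound
    have h8 : (Nat.card (Sylow p G) : ℝ) < 8 := by linarith
    have h8' : Nat.card (Sylow p G) < 8 := by exact_mod_cast h8
    omega
  generalize Nat.card (Sylow p G) = X at hmod hX h7 ⊢
  subst hp5
  omega

theorem main_even (he : Even D.e) : 2 * D.e + 1 = p ∧ Nat.card (Sylow p G) = p + 1 := by
  obtain ⟨q, hq⟩ := he
  have := D.e_two_le
  rcases (show D.e = 2 ∨ 4 ≤ D.e by omega) with h | h
  · exact D.main_even_two h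
  · exact D.main_even_big ⟨q, hq⟩ h

end Setup

end CfsgLib.PrimeDegreeUnique
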