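import Cfsg.Agent.Lib.PrimeDegreeUnique.Residue
import Cfsg.Agent.Lib.CharBlocks.IntegralRep
import Cfsg.Agent.Lib.Char.ClassAlgebra
import Mathlib.GroupTheory.DoubleCoset

/-!
# Integral representations and the fixed vectors of a TI subgroup of prime order
-/

set_option autoImplicit false

namespace CfsgLib.PrimeDegreeUnique

open Module Matrix
open scoped ComplexConjugate

variable {R : ValuationSubring ℂ} {p : ℕ} {G : Type*} [Group G]

local notation "κ" => IsLocalRing.ResidueField R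
local notation "π" => IsLocalRing.residue R

/-- Every character is afforded by matrices over `R`. -/
theorem exists_intRep (R : ValuationSubring ℂ) [Finite G] {χ : G → ℂ} (hχ : Cfsg.IsCharacter G χ) :
    ∃ (d : ℕ) (B : G →* Matrix (Fin d) (Fin d) R), (∀ g, (((B g).trace : R) : ℂ) = χ g) ∧ (d : ℂ) = χ 1 := by
  obtain ⟨d, A, hA, htr⟩ := CfsgLib.CharBlocks.exists_integral_matrix R hχ
  let B : G →* Matrix (Fin d) (Fin d) R :=
    { toFun := fun g => Matrix.of fun i j => ⟨A g i j, hA g i j⟩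
      map_one' := by
        ext i j
        simp [Matrix.one_apply]
        split_ifs <;> simp
      map_mul' := fun g h => by
        ext i j
        simp [Matrix.mul_apply, map_mul] }
  have h : ∀ g, (((B g).trace : R) : ℂ) = χ g := fun g => by
    rw [← htr g]
    simp [B, Matrix.trace]
  refine ⟨d, B, h, ?_⟩
  rw [← h 1, map_one, Matrix.trace_one, Fintype.card_fin]
  simp

/-- Matrix coefficients of one irreducible character annihilate the other irreducible representations. -/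
theorem sum_char_smul_eq_zero [Fintype G] {ω Z : G → ℂ} (hω : Cfsg.IsIrrCharacter G ω)
    (hZ : Cfsg.IsIrrCharacter G Z) (hne : ω ≠ Z) {d : ℕ} (B : G →* Matrix (Fin d) (Fin d) R)
    (hB : ∀ g, (((B g).trace : R) : ℂ) = Z g) (h : G) :
    ∑ g : G, ω (g⁻¹ * h) • (B g).map (R.subtype) = 0 := by
  classical
  let ρ : Representation ℂ G (Fin d → ℂ) :=
    (Matrix.toLinAlgEquiv' : _ ≃ₐ[ℂ] _).toAlgHom.toRingHom.toMonoidHom.comp
      ((R.subtype).mapMatrix.toMonoidHom.comp B)
  have hρ : ρ.character = Z := funext fun g => by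
    rw [← hB g]
    show LinearMap.trace ℂ _ (Matrix.toLin' ((B g).map R.subtype)) = _
    rw [Matrix.trace_toLin'_eq]
    simp [Matrix.trace]
  have hirr : ρ.IsIrreducible := CfsgLib.Char.isIrreducible_of_isIrrCharacter ρ (hρ.symm ▸ hZ)
  set T : Module.End ℂ (Fin d → ℂ) := ∑ g : G, ω g⁻¹ • ρ g with hT
  obtain ⟨c, hc⟩ := CfsgLib.Char.exists_eq_smul_id ρ T fun g => by
    rw [hT, ← Module.End.mul_eq_comp, ← Module.End.mul_eq_comp, Finset.sum_mul, Finset.mul_sum]
    refine Fintype.sum_equiv (MulAut.conj g⁻¹).toEquiv _ _ fun x => ?_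
    simp only [MulEquiv.toEquiv_eq_coe, MulEquiv.coe_toEquiv, MulAut.conj_apply, inv_inv, smul_mul_assoc,
      mul_smul_comm, ← map_mul]
    rw [show (g⁻¹ * x * g)⁻¹ = g⁻¹ * x⁻¹ * (g⁻¹)⁻¹ by group,
      CfsgLib.Char.isClassFunction_of_isIrr hω x⁻¹ g⁻¹, show g * (g⁻¹ * x * g) = x * g by group]
  have htr : (d : ℂ) * c = 0 := by
    have h1 := congrArg (LinearMap.trace ℂ _) hc
    rw [hT, map_sum, map_smul, LinearMap.trace_id, Module.finrank_fintype_fun_eq_card, Fintype.card_fin,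
      smul_eq_mul] at h1
    rw [mul_comm, ← h1, Finset.sum_congr rfl fun g _ => map_smul _ _ _]
    have h2 := CfsgLib.Char.card_mul_classInner Z ω
    rw [CfsgLib.Char.classInner_irr_ne hZ hω hne.symm, mul_zero] at h2
    rw [h2]
    refine Finset.sum_congr rfl fun g _ => ?_
    rw [show LinearMap.trace ℂ _ (ρ g) = Z g from congrFun hρ g, smul_eq_mul,
      CfsgLib.Char.char_inv (CfsgLib.Char.isCharacter_of_isIrr hω), mul_comm]
  have hd : (d : ℂ) ≠ 0 := by
    have h1 := CfsgLib.Char.irr_one_ne_zero hZ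
    rw [← hB 1, map_one, Matrix.trace_one, Fintype.card_fin] at h1
    simpa using h1
  rw [(mul_eq_zero.mp htr).resolve_left hd, zero_smul, hT] at hc
  have h2 : ∑ g : G, ω (g⁻¹ * h) • ρ g = 0 := by
    have h3 : ρ h * ∑ g : G, ω g⁻¹ • ρ g = 0 := by rw [hc, mul_zero]
    rw [← h3, Finset.mul_sum]
    refine (Fintype.sum_equiv (Equiv.mulLeft h) _ _ fun g => ?_).symm
    simp [← map_mul, mul_assoc]
  refine (Matrix.toLinAlgEquiv' (R := ℂ) (n := Fin d)).injective ?_
  rw [map_sum, map_zero, ← h2]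
  exact Finset.sum_congr rfl fun g _ => map_smul _ _ _

/-- The vectors fixed by `P` on which `E` acts by `ν` are norms, if a function `f` with the indicated
invariance annihilates the representation. -/
theorem exists_eq_sum_mulVec [Fintype G] (P E N : Subgroup G) [Fintype P] (hPN : P ≤ N) (_hEN : E ≤ N)
    (hdec : ∀ n ∈ N, ∃ x ∈ P, ∃ a ∈ E, n = x * a)
    (hfree : ∀ g, g ∉ N → ∀ x ∈ P, g⁻¹ * x * g ∈ N → x = 1)
    {d : ℕ} (B : G →* Matrix (Fin d) (Fin d) R) (ν : G → R) (f : G → R)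
    (hfl : ∀ x ∈ P, ∀ g, f (x * g) = f g) (hfr : ∀ x ∈ P, ∀ g, f (g * x) = f g)
    (hfa : ∀ a ∈ E, ∀ g, f (a * g) = ν a * f g) (hf1 : f 1 = 1)
    (hzero : ∑ g : G, f g⁻¹ • B g = 0)
    (v : Fin d → R) (hvP : ∀ x ∈ P, B x *ᵥ v = v) (hvE : ∀ a ∈ E, B a *ᵥ v = ν a • v) :
    ∃ u, v = (∑ y : P, B y) *ᵥ u := by
  classical
  set T : G → Fin d → R := fun g => f g⁻¹ • (B g *ᵥ v) with hT
  have hsum : ∑ g, T g = 0 := by
    have h := congrArg (fun M : Matrix (Fin d) (Fin d) R => M *ᵥ v) hzero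
    simpa [Matrix.sum_mulVec, Matrix.smul_mulVec, Matrix.zero_mulVec] using h
  have hν : ∀ a ∈ E, ν a⁻¹ * ν a = 1 := fun a ha => by
    have h1 := hfa a ha a⁻¹
    rw [mul_inv_cancel, hf1] at h1
    have h2 := hfa a⁻¹ (E.inv_mem ha) 1
    rw [mul_one, hf1, mul_one] at h2
    rw [← h2, mul_comm]
    exact h1.symm
  have hTl : ∀ x ∈ P, ∀ g, T (x * g) = B x *ᵥ T g := fun x hx g => by
    simp only [hT, _root_.mul_inv_rev, hfr _ (P.inv_mem hx), map_mul, ← Matrix.mulVec_mulVec,
      Matrix.mulVec_smul]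
  have hTr : ∀ n ∈ N, ∀ g, T (g * n) = T g := fun n hn g => by
    obtain ⟨x, hx, a, ha, rfl⟩ := hdec n hn
    simp only [hT, _root_.mul_inv_rev, map_mul, mul_assoc, ← Matrix.mulVec_mulVec, hvE a ha, Matrix.mulVec_smul,
      hvP x hx, hfa _ (E.inv_mem ha), hfl _ (P.inv_mem hx), smul_smul]
    rw [show ν a⁻¹ * (f g⁻¹ * ν a) = f g⁻¹ * (ν a⁻¹ * ν a) by ring, hν a ha, mul_one]
  have hT1 : T 1 = v := by simp [hT, hf1]
  let q : G → DoubleCoset.Quotient (P : Set G) (N : Set G) := DoubleCoset.mk _ _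
  have : Finite (DoubleCoset.Quotient (P : Set G) (N : Set G)) := Quotient.finite _
  let _ := Fintype.ofFinite (DoubleCoset.Quotient (P : Set G) (N : Set G))
  rw [← Finset.sum_fiberwise Finset.univ q, ← Finset.add_sum_erase _ _ (Finset.mem_univ (q 1))] at hsum
  have hbase : ∑ g ∈ Finset.univ.filter (fun g => q g = q 1), T g = (Nat.card N : R) • v := by
    have hfil : Finset.univ.filter (fun g => q g = q 1) = Finset.univ.filter (fun g => g ∈ N) := by
      refine Finset.filter_congr fun g _ => ?_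
      rw [DoubleCoset.eq]
      constructor
      · rintro ⟨x, hx, n, hn, h⟩
        have hg : g = x⁻¹ * 1 * n⁻¹ := by rw [h]; group
        rw [hg, mul_one]
        exact N.mul_mem (N.inv_mem (hPN hx)) (N.inv_mem hn)
      · exact fun hg => ⟨1, P.one_mem, g⁻¹, N.inv_mem hg, by simp⟩
    rw [hfil, Finset.sum_congr rfl fun g hg => show T g = v by
      rw [← one_mul g, hTr g (Finset.mem_filter.mp hg).2, hT1], Finset.sum_const, ← Fintype.card_subtype,
      ← Nat.card_eq_fintype_card, Nat.cast_smul_eq_nsmul]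
  have hrest : ∀ c ∈ Finset.univ.erase (q 1), ∑ g ∈ Finset.univ.filter (fun g => q g = c), T g =
      (Nat.card N : R) • ((∑ y : P, B y) *ᵥ T c.out) := by
    intro c hc
    let _ := Fintype.ofFinite N
    have hcq : q c.out = c := Quotient.out_eq c
    have hr : c.out ∉ N := fun h => (Finset.mem_erase.mp hc).1 (by
      rw [← hcq, DoubleCoset.eq]
      exact ⟨1, P.one_mem, c.out⁻¹, N.inv_mem h, by simp⟩)
    rw [← Finset.sum_bij (fun (z : P × N) _ => (z.1 : G) * c.out * z.2) (s := Finset.univ) (g := T)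
      (f := fun z => T ((z.1 : G) * c.out * z.2)), Fintype.sum_prod_type]
    · have hin : ∀ y : P, ∑ n : N, T ((y : G) * c.out * n) = (Nat.card N : R) • (B y *ᵥ T c.out) := fun y => by
        rw [Finset.sum_congr rfl fun (n : N) _ => (hTr n n.2 _).trans (hTl y y.2 _), Finset.sum_const,
          Finset.card_univ, ← Nat.card_eq_fintype_card, Nat.cast_smul_eq_nsmul]
      simp only [hin]
      rw [← Finset.smul_sum, ← Matrix.sum_mulVec]
    · intro z _
      refine Finset.mem_filter.mpr ⟨Finset.mem_univ _, ?_⟩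
      exact ((DoubleCoset.eq P N _ _).mpr ⟨z.1, z.1.2, z.2, z.2.2, rfl⟩).symm.trans hcq
    · intro z _ z' _ h
      have h1 : c.out⁻¹ * ((z'.1 : G)⁻¹ * z.1) * c.out = (z'.2 : G) * (z.2 : G)⁻¹ := by
        calc c.out⁻¹ * ((z'.1 : G)⁻¹ * z.1) * c.out
            = c.out⁻¹ * (z'.1 : G)⁻¹ * ((z.1 : G) * c.out * z.2) * (z.2 : G)⁻¹ := by group
          _ = _ := by rw [h]; group
      have h2 := hfree _ hr _ (P.mul_mem (P.inv_mem z'.1.2) z.1.2)
        (h1 ▸ N.mul_mem z'.2.2 (N.inv_mem z.2.2))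
      have h3 : z'.1 = z.1 := Subtype.ext (inv_mul_eq_one.mp h2)
      refine Prod.ext h3.symm (Subtype.ext ?_)
      rw [h3] at h
      exact mul_left_cancel h
    · intro g hg
      obtain ⟨x, hx, n, hn, h⟩ := (DoubleCoset.eq P N _ _).mp (hcq.trans (Finset.mem_filter.mp hg).2.symm)
      exact ⟨(⟨x, hx⟩, ⟨n, hn⟩), Finset.mem_univ _, h.symm⟩
    · exact fun _ _ => rfl
  rw [hbase, Finset.sum_congr rfl hrest, ← Finset.smul_sum, ← smul_add, ← Matrix.mulVec_sum] at hsum
  have hN0 : (Nat.card N : R) ≠ 0 := Nat.cast_ne_zero.mpr Nat.card_pos.ne'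
  refine ⟨-∑ c ∈ Finset.univ.erase (q 1), T c.out, ?_⟩
  rw [Matrix.mulVec_neg]
  exact eq_neg_of_add_eq_zero_left ((smul_eq_zero.mp hsum).resolve_left hN0)

/-- If all fixed vectors of `P` are norms, the fixed space has dimension at most `d / p`. -/
theorem fixed_le [hp : Fact p.Prime] [Finite G] (hR : R.valuation (p : ℂ) < 1) (P : Subgroup G) [Fintype P]
    (hP : Nat.card P = p) {d : ℕ} (B : G →* Matrix (Fin d) (Fin d) R)
    (hkey : ∀ v : Fin d → R, (∀ y ∈ P, B y *ᵥ v = v) → ∃ u, v = (∑ y : P, B y) *ᵥ u) :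
    ∃ a : ℕ, ∑ y : P, (((B y).trace : R) : ℂ) = (p : ℂ) * a ∧ p * a ≤ d := by
  classical
  set C : G →* Matrix (Fin d) (Fin d) ℂ := (R.subtype).mapMatrix.toMonoidHom.comp B with hC
  have hp0 : (p : ℂ) ≠ 0 := Nat.cast_ne_zero.mpr hp.out.ne_zero
  set S : Matrix (Fin d) (Fin d) ℂ := ∑ y : P, C y with hS
  have hCS : ∀ y : P, C y * S = S := fun y => by
    rw [hS, Finset.mul_sum]
    exact Fintype.sum_equiv (Equiv.mulLeft y) _ _ fun z => by simp [map_mul]
  set f : (Fin d → ℂ) →ₗ[ℂ] (Fin d → ℂ) := Matrix.toLin' ((p : ℂ)⁻¹ • S) with hf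
  have hproj : LinearMap.IsProj (LinearMap.range f) f := by
    refine ⟨fun x => LinearMap.mem_range_self f x, ?_⟩
    rintro _ ⟨x, rfl⟩
    have hSS : S * S = (p : ℂ) • S := by
      conv_lhs => rw [hS, Finset.sum_mul]
      simp only [← hS, hCS]
      rw [Finset.sum_const, Finset.card_univ, ← Nat.card_eq_fintype_card, hP, Nat.cast_smul_eq_nsmul]
    simp only [hf, Matrix.toLin'_apply, Matrix.mulVec_mulVec, smul_mul_smul_comm, hSS, smul_smul]
    congr 2
    field_simp
  refine ⟨finrank ℂ (LinearMap.range f), ?_, ?_⟩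
  · have h := hproj.trace
    rw [hf, Matrix.trace_toLin'_eq, Matrix.trace_smul, smul_eq_mul, inv_mul_eq_iff_eq_mul₀ hp0, ← hf] at h
    rw [← h, hS, Matrix.trace_sum]
    exact Finset.sum_congr rfl fun y _ => by simp [hC, Matrix.trace]
  · obtain ⟨w, hwV, hw⟩ := exists_independent_lift R _ (LinearMap.range f) rfl
    refine le_trans (Nat.mul_le_mul_left _ ?_) (mul_finrank_sum_le hR P hP B)
    have hmem : ∀ i, (fun j => π (w i j)) ∈ LinearMap.range (Matrix.toLin' (∑ y : P, redHom B y)) := by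
      intro i
      obtain ⟨u, hu⟩ := hkey (w i) fun y hy => by
        have h1 := hproj.map_id _ (hwV i)
        have h2 : C y *ᵥ (fun j => ((w i j : R) : ℂ)) = fun j => ((w i j : R) : ℂ) := by
          conv_lhs => rw [← h1]
          rw [hf, Matrix.toLin'_apply, Matrix.mulVec_mulVec, Matrix.mul_smul, hCS ⟨y, hy⟩]
          exact h1
        funext j
        refine Subtype.ext ?_
        rw [← congrFun h2 j]
        exact RingHom.map_mulVec R.subtype (B y) (w i) j
      refine ⟨fun j => π (u j), ?_⟩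
      funext j
      rw [Matrix.toLin'_apply, hu, RingHom.map_mulVec]
      have hm : ∀ M : P → Matrix (Fin d) (Fin d) R, (∑ y : P, M y).map π = ∑ y : P, (M y).map π := fun M =>
        map_sum (π).mapMatrix M Finset.univ
      rw [hm]
      rfl
    calc finrank ℂ (LinearMap.range f) = Fintype.card (Fin (finrank ℂ (LinearMap.range f))) := (Fintype.card_fin _).symm
      _ ≤ _ := LinearIndependent.fintype_card_le_finrank (R := κ)
        (b := fun i => (⟨fun j => π (w i j), hmem i⟩ : LinearMap.range (Matrix.toLin' (∑ y : P, redHom B y))))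
        (LinearIndependent.of_comp (LinearMap.range (Matrix.toLin' (∑ y : P, redHom B y))).subtype hw)

/-- Two orthogonal eigenvalue functions cannot both give unit norms in dimension below `2 p`. -/
theorem exists_small [hp : Fact p.Prime] [Finite G] (hR : R.valuation (p : ℂ) < 1) (P E : Subgroup G) [Fintype P] [Fintype E]
    (hP : Nat.card P = p) (hnorm : ∀ a ∈ E, ∀ x ∈ P, a * x * a⁻¹ ∈ P)
    {n : ℕ} (hn : n < 2 * p) (A : G →* Matrix (Fin n) (Fin n) R) (ν₁ ν₂ : E →* R)
    (he : π (Nat.card E : R) ≠ 0) (horth : ∑ a : E, ν₁ a⁻¹ * ν₂ a = 0) :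
    (∀ g : G, π (∑ x : P, ∑ a : E, ν₁ a⁻¹ * (A (g * x * a)).trace) = 0) ∨
      (∀ g : G, π (∑ x : P, ∑ a : E, ν₂ a⁻¹ * (A (g * x * a)).trace) = 0) := by
  classical
  set S := ∑ x : P, redHom A x with hS
  set pr : (E →* R) → Matrix (Fin n) (Fin n) κ := fun ν => ∑ a : E, π (ν a⁻¹) • redHom A (a : G) with hpr
  have htrace : ∀ (ν : E →* R) (g : G), π (∑ x : P, ∑ a : E, ν a⁻¹ * (A (g * x * a)).trace) =
      (redHom A g * (S * pr ν)).trace := fun ν g => by
    simp only [hS, hpr, Finset.sum_mul, Finset.mul_sum, Matrix.trace_sum, map_sum, map_mul,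
      Matrix.mul_smul, Matrix.trace_smul, smul_eq_mul]
    rw [Finset.sum_comm]
    refine Finset.sum_congr rfl fun a _ => Finset.sum_congr rfl fun x _ => ?_
    congr 1
    rw [← map_mul A, ← map_mul A, ← map_mul (redHom A), ← map_mul (redHom A), ← mul_assoc, redHom_apply]
    exact AddMonoidHom.map_trace (π).toAddMonoidHom (A (g * x * a))
  by_contra hcon
  push Not at hcon
  obtain ⟨⟨g₁, h₁⟩, g₂, h₂⟩ := hcon
  have hQ : ∀ (ν : E →* R) (g : G), π (∑ x : P, ∑ a : E, ν a⁻¹ * (A (g * x * a)).trace) ≠ 0 →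
      S * pr ν ≠ 0 := fun ν g h h0 => h (by rw [htrace, h0, mul_zero, Matrix.trace_zero])
  have hSE : ∀ a : E, redHom A (a : G) * S = S * redHom A (a : G) := fun a => by
    rw [hS, Finset.mul_sum, Finset.sum_mul]
    refine Fintype.sum_equiv
      { toFun := fun x : P => ⟨(a : G) * x * (a : G)⁻¹, hnorm _ a.2 _ x.2⟩
        invFun := fun x : P => ⟨((a⁻¹ : E) : G) * x * ((a⁻¹ : E) : G)⁻¹, hnorm _ (a⁻¹).2 _ x.2⟩
        left_inv := fun x => Subtype.ext (by simp [mul_assoc])
        right_inv := fun x => Subtype.ext (by simp [mul_assoc]) } _ _ fun x => ?_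
    simp [← map_mul, mul_assoc]
  have hcomm : ∀ ν, pr ν * S = S * pr ν := fun ν => by
    simp only [hpr, Finset.sum_mul, Finset.mul_sum, smul_mul_assoc, mul_smul_comm, hSE]
  have hprod : ∀ ν ν' : E →* R, pr ν * pr ν' = π (∑ a : E, ν a⁻¹ * ν' a) • pr ν' := fun ν ν' => by
    simp only [hpr]
    rw [Finset.sum_mul, map_sum, Finset.sum_smul]
    refine Finset.sum_congr rfl fun a _ => ?_
    rw [Finset.mul_sum, Finset.smul_sum]
    refine Fintype.sum_equiv (Equiv.mulLeft a) _ _ fun b => ?_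
    rw [smul_mul_smul_comm, ← map_mul, smul_smul]
    simp only [Equiv.coe_mulLeft, Subgroup.coe_mul, _root_.mul_inv_rev, map_mul]
    congr 1
    have : ν' a * ν' a⁻¹ = 1 := by rw [← map_mul, mul_inv_cancel, map_one]
    have h' : π (ν' a) * π (ν' a⁻¹) = 1 := by rw [← map_mul, this, map_one]
    linear_combination -(π (ν a⁻¹) * π (ν' b⁻¹)) * h'
  have hprS : ∀ ν ν' : E →* R, pr ν * (S * pr ν') = π (∑ a : E, ν a⁻¹ * ν' a) • (S * pr ν') := fun ν ν' => by
    rw [← mul_assoc, hcomm, mul_assoc, hprod, Matrix.mul_smul]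
  have hrank : 2 ≤ finrank κ (LinearMap.range (Matrix.toLin' S)) := by
    obtain ⟨u₁, hu₁⟩ : ∃ u, (S * pr ν₁) *ᵥ u ≠ 0 := by
      by_contra h
      push Not at h
      exact hQ ν₁ g₁ h₁ (Matrix.ext_of_mulVec_single fun i => by rw [h, Matrix.zero_mulVec])
    obtain ⟨u₂, hu₂⟩ : ∃ u, (S * pr ν₂) *ᵥ u ≠ 0 := by
      by_contra h
      push Not at h
      exact hQ ν₂ g₂ h₂ (Matrix.ext_of_mulVec_single fun i => by rw [h, Matrix.zero_mulVec])
    have hli : LinearIndependent κ ![(S * pr ν₁) *ᵥ u₁, (S * pr ν₂) *ᵥ u₂] := by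
      rw [LinearIndependent.pair_iff]
      intro s t hst
      have h1 := congrArg (fun z => pr ν₁ *ᵥ z) hst
      simp only [Matrix.mulVec_add, Matrix.mulVec_smul, Matrix.mulVec_zero, Matrix.mulVec_mulVec, hprS, horth,
        map_zero, zero_smul, Matrix.zero_mulVec, smul_zero, add_zero, Matrix.smul_mulVec, smul_smul] at h1
      have hee : π (∑ a : E, ν₁ a⁻¹ * ν₁ a) ≠ 0 := by
        rw [Finset.sum_congr rfl fun a _ => by rw [← map_mul, inv_mul_cancel, map_one], Finset.sum_const,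
          Finset.card_univ, nsmul_one, ← Nat.card_eq_fintype_card]
        exact he
      have hs : s = 0 := by
        by_contra hs
        exact hu₁ ((smul_eq_zero.mp h1).resolve_left (mul_ne_zero hs hee))
      subst hs
      rw [zero_smul, zero_add] at hst
      exact ⟨rfl, (smul_eq_zero.mp hst).resolve_right hu₂⟩
    calc 2 = finrank κ (Submodule.span κ (Set.range ![(S * pr ν₁) *ᵥ u₁, (S * pr ν₂) *ᵥ u₂])) := by
            rw [finrank_span_eq_card hli, Fintype.card_fin]
      _ ≤ _ := Submodule.finrank_mono (by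
            rw [Submodule.span_le]
            rintro _ ⟨i, rfl⟩
            fin_cases i
            · exact ⟨pr ν₁ *ᵥ u₁, by simp [Matrix.toLin'_apply, Matrix.mulVec_mulVec]⟩
            · exact ⟨pr ν₂ *ᵥ u₂, by simp [Matrix.toLin'_apply, Matrix.mulVec_mulVec]⟩)
  have := mul_finrank_sum_le hR P hP A
  rw [← hS] at this
  nlinarith [Nat.mul_le_mul_left p hrank]

end CfsgLib.PrimeDegreeUnique
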