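import Cfsg.Agent.Lib.Char.TI
import Cfsg.Agent.Lib.Char.DefectZero
import Cfsg.Agent.Lib.CharBlocks.AMGM
import Cfsg.Agent.Lib.Blocks.PrimeGalois
import Cfsg.Agent.Lib.Char.Induced
import Mathlib.Analysis.SpecialFunctions.Complex.CircleAddChar
import Mathlib.NumberTheory.LegendreSymbol.AddCharacter
import Mathlib.GroupTheory.SpecificGroups.Cyclic

/-!
# A unique character of prime degree and a TI complement: local data

`G` is a simple group with a self-centralising subgroup `P` of prime order `p`, `N(P) = P E`, the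
complement `E` is TI with `|N(E)| = 2 |E|`, and `χ` is the only irreducible character of degree `p`.
-/

set_option autoImplicit false

noncomputable section

namespace CfsgLib.PrimeDegreeUnique

open Cfsg Subgroup
open scoped ComplexConjugate

/-- The data. -/
structure Setup (G : Type*) [Group G] [Fintype G] (p : ℕ) [Fact p.Prime] where
  P : Sylow p G
  hP : Nat.card (P : Subgroup G) = p
  hC : Subgroup.centralizer ((P : Subgroup G) : Set G) = (P : Subgroup G)
  E : Subgroup G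
  hN : (P : Subgroup G) ⊔ E = Subgroup.normalizer ((P : Subgroup G) : Set G)
  hPE : (P : Subgroup G) ⊓ E = ⊥
  cyc : IsCyclic E
  two_le : 2 ≤ Nat.card E
  dvd : Nat.card E ∣ p - 1
  teven : Even ((p - 1) / Nat.card E)
  hNE : Nat.card (Subgroup.normalizer (E : Set G)) = 2 * Nat.card E
  hTI : ∀ g : G, g ∉ Subgroup.normalizer (E : Set G) → E ⊓ E.map (MulAut.conj g).toMonoidHom = ⊥
  simple : IsSimpleGroup G
  perfect : commutator G = ⊤
  χ : IrrCharacter G
  deg : (χ : G → ℂ) 1 = p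
  uniq : ∀ ψ : IrrCharacter G, (ψ : G → ℂ) 1 = p → ψ = χ
  dvd_fact : Nat.card G ∣ p.factorial

namespace Setup

variable {G : Type*} [Group G] [Fintype G] {p : ℕ} [hp : Fact p.Prime] (D : Setup G p)

/-- The order of the complement. -/
def e : ℕ := Nat.card D.E

instance : NeZero D.e := ⟨Nat.card_pos.ne'⟩

theorem e_two_le : 2 ≤ D.e := D.two_le

theorem e_dvd : D.e ∣ p - 1 := D.dvd

theorem e_lt : D.e < p := by
  have := Nat.le_of_dvd (by have := hp.out.two_le; omega) D.e_dvd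
  have := hp.out.two_le
  omega

theorem not_dvd_e : ¬ p ∣ D.e := fun h => by
  have : p ≤ D.e := Nat.le_of_dvd Nat.card_pos h
  have := D.e_lt
  omega

include D in
theorem three_le : 3 ≤ p := by
  have := D.e_two_le
  have := D.e_lt
  omega

/-- A cyclic enumeration of the complement. -/
def iso : Multiplicative (ZMod D.e) ≃* D.E := zmodCyclicMulEquiv D.cyc

def el (b : ZMod D.e) : G := (D.iso (Multiplicative.ofAdd b) : G)

def lg (x : D.E) : ZMod D.e := Multiplicative.toAdd (D.iso.symm x)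

theorem el_mem (b : ZMod D.e) : D.el b ∈ D.E := (D.iso _).2

theorem el_add (b c : ZMod D.e) : D.el (b + c) = D.el b * D.el c := by
  simp [el, ofAdd_add]

theorem el_zero : D.el 0 = 1 := by simp [el]

theorem el_neg (b : ZMod D.e) : D.el (-b) = (D.el b)⁻¹ := by
  simp [el]

theorem el_inj {b c : ZMod D.e} (h : D.el b = D.el c) : b = c :=
  Multiplicative.ofAdd.injective (D.iso.injective (Subtype.ext h))

theorem el_ne_one {b : ZMod D.e} (h : b ≠ 0) : D.el b ≠ 1 := fun h' => h (D.el_inj (h'.trans D.el_zero.symm))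

theorem lg_el (b : ZMod D.e) : D.lg ⟨D.el b, D.el_mem b⟩ = b := by
  show Multiplicative.toAdd (D.iso.symm (D.iso (Multiplicative.ofAdd b))) = b
  rw [MulEquiv.symm_apply_apply, toAdd_ofAdd]

theorem el_lg (x : D.E) : D.el (D.lg x) = x := by simp [el, lg]

theorem lg_mul (x y : D.E) : D.lg (x * y) = D.lg x + D.lg y := by simp [lg]

theorem lg_one : D.lg 1 = 0 := by simp [lg]

theorem exists_el {g : G} (hg : g ∈ D.E) : ∃ b, D.el b = g := ⟨D.lg ⟨g, hg⟩, D.el_lg _⟩

theorem exists_el' {g : G} (hg : g ∈ D.E) (hg1 : g ≠ 1) : ∃ b, b ≠ 0 ∧ D.el b = g := by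
  obtain ⟨b, rfl⟩ := D.exists_el hg
  exact ⟨b, fun h => hg1 (by rw [h, D.el_zero]), rfl⟩

theorem el_natCast (n : ℕ) : D.el (n : ZMod D.e) = D.el 1 ^ n := by
  induction n with
  | zero => simp [D.el_zero]
  | succ n ih => rw [Nat.cast_succ, D.el_add, ih, pow_succ]

theorem sum_E {M : Type*} [AddCommMonoid M] [Fintype D.E] (f : G → M) :
    ∑ x : D.E, f x = ∑ b : ZMod D.e, f (D.el b) :=
  Fintype.sum_equiv ⟨D.lg, fun b => ⟨D.el b, D.el_mem b⟩, fun x => Subtype.ext (D.el_lg x), D.lg_el⟩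
    _ _ fun x => by rw [Equiv.coe_fn_mk, D.el_lg]

theorem el_comm (b c : ZMod D.e) : D.el b * D.el c = D.el c * D.el b := by
  rw [← D.el_add, ← D.el_add, add_comm]

/-! ### The Sylow subgroup -/

theorem P_le_N : (D.P : Subgroup G) ≤ normalizer ((D.P : Subgroup G) : Set G) := le_normalizer

theorem E_le_N : D.E ≤ normalizer ((D.P : Subgroup G) : Set G) := D.hN ▸ le_sup_right

theorem dec {n : G} (hn : n ∈ normalizer ((D.P : Subgroup G) : Set G)) :
    ∃ x ∈ (D.P : Subgroup G), ∃ a ∈ D.E, n = x * a := by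
  have h : n ∈ (((D.P : Subgroup G) ⊔ D.E : Subgroup G) : Set G) := by rw [D.hN]; exact hn
  rw [Subgroup.coe_mul_of_right_le_normalizer_left _ _ D.E_le_N] at h
  obtain ⟨x, hx, a, ha, rfl⟩ := h
  exact ⟨x, hx, a, ha, rfl⟩

theorem eq_of_mul_eq {x x' a a' : G} (hx : x ∈ (D.P : Subgroup G)) (hx' : x' ∈ (D.P : Subgroup G))
    (ha : a ∈ D.E) (ha' : a' ∈ D.E) (h : x * a = x' * a') : x = x' ∧ a = a' := by
  have h1 : x'⁻¹ * x = a' * a⁻¹ := by
    calc x'⁻¹ * x = x'⁻¹ * (x * a) * a⁻¹ := by group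
      _ = _ := by rw [h]; group
  have h2 : x'⁻¹ * x ∈ (D.P : Subgroup G) ⊓ D.E := ⟨Subgroup.mul_mem _ (Subgroup.inv_mem _ hx') hx, h1 ▸ Subgroup.mul_mem _ ha' (Subgroup.inv_mem _ ha)⟩
  rw [D.hPE, mem_bot] at h2
  refine ⟨(inv_mul_eq_one.mp h2).symm, ?_⟩
  rw [h1] at h2
  exact (mul_inv_eq_one.mp h2).symm

theorem card_N : Nat.card (normalizer ((D.P : Subgroup G) : Set G)) = p * D.e := by
  refine Eq.trans (Nat.card_congr (Equiv.ofBijective (fun z : ↥(D.P : Subgroup G) × ↥D.E =>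
    (⟨(z.1 : G) * z.2, mul_mem (D.P_le_N z.1.2) (D.E_le_N z.2.2)⟩ :
      normalizer ((D.P : Subgroup G) : Set G))) ⟨?_, ?_⟩).symm) (by rw [Nat.card_prod, D.hP]; rfl)
  · intro z z' h
    obtain ⟨h1, h2⟩ := D.eq_of_mul_eq z.1.2 z'.1.2 z.2.2 z'.2.2 (congrArg Subtype.val h)
    exact Prod.ext (Subtype.ext h1) (Subtype.ext h2)
  · rintro ⟨n, hn⟩
    obtain ⟨x, hx, a, ha, rfl⟩ := D.dec hn
    exact ⟨(⟨x, hx⟩, ⟨a, ha⟩), rfl⟩

theorem zpowers_eq {x : G} (hx : x ∈ (D.P : Subgroup G)) (hx1 : x ≠ 1) : zpowers x = (D.P : Subgroup G) := by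
  refine eq_of_le_of_card_ge (zpowers_le.mpr hx) ?_
  rw [D.hP, Nat.card_zpowers]
  have h1 : orderOf x ∣ p := by
    have h := orderOf_dvd_natCard (⟨x, hx⟩ : (D.P : Subgroup G))
    rw [orderOf_mk, D.hP] at h
    exact h
  exact (((Nat.dvd_prime hp.out).mp h1).resolve_left fun h => hx1 (orderOf_eq_one_iff.mp h)).ge

theorem orderOf_mem {x : G} (hx : x ∈ (D.P : Subgroup G)) (hx1 : x ≠ 1) : orderOf x = p := by
  rw [← Nat.card_zpowers, D.zpowers_eq hx hx1, D.hP]

theorem centralizer_mem {x g : G} (hx : x ∈ (D.P : Subgroup G)) (hx1 : x ≠ 1) (h : g * x = x * g) :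
    g ∈ (D.P : Subgroup G) := by
  rw [← D.hC]
  refine mem_centralizer_iff.mpr fun y hy => ?_
  obtain ⟨i, rfl⟩ := mem_zpowers_iff.mp (show y ∈ zpowers x by rw [D.zpowers_eq hx hx1]; exact hy)
  exact ((show Commute g x from h).zpow_right i).eq.symm

theorem conj_mem_P {a x : G} (ha : a ∈ normalizer ((D.P : Subgroup G) : Set G)) (hx : x ∈ (D.P : Subgroup G)) :
    a * x * a⁻¹ ∈ (D.P : Subgroup G) := ((mem_normalizer_iff (H := (D.P : Subgroup G))).mp ha x).mp hx

/-- `P` acts freely by conjugation on the non-trivial cosets `a P`. -/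
theorem exists_conj_eq {b : ZMod D.e} (hb : b ≠ 0) {x : G} (hx : x ∈ (D.P : Subgroup G)) :
    ∃ y ∈ (D.P : Subgroup G), y * D.el b * y⁻¹ = x * D.el b := by
  set a := D.el b with ha
  have haN := D.E_le_N (D.el_mem b)
  let φ : ↥(D.P : Subgroup G) → ↥(D.P : Subgroup G) := fun y =>
    ⟨(y : G) * (a * (y : G)⁻¹ * a⁻¹), mul_mem y.2 (D.conj_mem_P haN (inv_mem y.2))⟩
  have hinj : Function.Injective φ := by
    intro y z h
    have h' : (y : G) * (a * (y : G)⁻¹ * a⁻¹) = (z : G) * (a * (z : G)⁻¹ * a⁻¹) := congrArg Subtype.val h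
    by_contra hne
    have hc : a * ((z : G)⁻¹ * y) = ((z : G)⁻¹ * y) * a := by
      calc a * ((z : G)⁻¹ * y) = (z : G)⁻¹ * ((z : G) * (a * (z : G)⁻¹ * a⁻¹)) * a * y := by group
        _ = (z : G)⁻¹ * ((y : G) * (a * (y : G)⁻¹ * a⁻¹)) * a * y := by rw [h']
        _ = _ := by group
    have hmem : a ∈ (D.P : Subgroup G) ⊓ D.E := ⟨D.centralizer_mem (mul_mem (inv_mem z.2) y.2)
      (fun h1 => hne (Subtype.ext (inv_mul_eq_one.mp h1).symm)) hc, D.el_mem b⟩
    rw [D.hPE, mem_bot] at hmem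
    exact D.el_ne_one hb hmem
  obtain ⟨y, hy⟩ := (Finite.injective_iff_surjective.mp hinj) ⟨x, hx⟩
  refine ⟨y, y.2, ?_⟩
  have hy' : (y : G) * (a * (y : G)⁻¹ * a⁻¹) = x := congrArg Subtype.val hy
  rw [← hy']; group

theorem exists_conj_P {g : G} (hg : p ∣ orderOf g) :
    ∃ c, c * g * c⁻¹ ∈ (D.P : Subgroup G) ∧ c * g * c⁻¹ ≠ 1 := by
  have ho : orderOf (g ^ (orderOf g / p)) = p := by
    rw [orderOf_pow_of_dvd (Nat.div_pos (Nat.le_of_dvd (orderOf_pos g) hg) hp.out.pos).ne'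
      (Nat.div_dvd_of_dvd hg), Nat.div_div_self hg (orderOf_pos g).ne']
  set z := g ^ (orderOf g / p)
  obtain ⟨Q, hQ⟩ := (IsPGroup.of_card (n := 1)
    (show Nat.card (zpowers z) = p ^ 1 by rw [Nat.card_zpowers, ho, pow_one])).exists_le_sylow
  obtain ⟨c, hc⟩ := MulAction.exists_smul_eq G Q D.P
  have hz : c * z * c⁻¹ ∈ (D.P : Subgroup G) := by
    rw [← hc, Sylow.coe_subgroup_smul]
    exact ⟨z, hQ (mem_zpowers z), by simp⟩
  have hz1 : c * z * c⁻¹ ≠ 1 := fun h => hp.out.ne_one (by rw [← ho, conj_eq_one_iff.mp h, orderOf_one])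
  refine ⟨c, D.centralizer_mem hz hz1 ?_, fun h => ?_⟩
  · calc c * g * c⁻¹ * (c * z * c⁻¹) = c * (g * z) * c⁻¹ := by group
      _ = c * (z * g) * c⁻¹ := by rw [(Commute.self_pow g _).eq]
      _ = _ := by group
  · rw [conj_eq_one_iff.mp h, orderOf_one] at hg
    exact hp.out.not_dvd_one hg

include D in
theorem orderOf_of_dvd {g : G} (hg : p ∣ orderOf g) : orderOf g = p := by
  obtain ⟨c, hc, hc1⟩ := D.exists_conj_P hg
  rw [← D.orderOf_mem hc hc1]
  exact ((MulAut.conj c).orderOf_eq g).symm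

theorem not_dvd_orderOf_el {b : ZMod D.e} {g : G} (hg : IsConj (D.el b) g) : ¬ p ∣ orderOf g := by
  obtain ⟨c, rfl⟩ := isConj_iff.mp hg
  intro h
  rw [← MulAut.conj_apply, MulEquiv.orderOf_eq] at h
  have h2 : orderOf (D.el b) ∣ D.e := by
    have h3 := orderOf_dvd_natCard (⟨D.el b, D.el_mem b⟩ : D.E)
    rw [orderOf_mk] at h3
    exact h3
  exact D.not_dvd_e (h.trans h2)

/-! ### The normalizer of the complement -/

theorem mem_normalizer_of_conj {g : G} {b : ZMod D.e} (hb : b ≠ 0) (hg : g * D.el b * g⁻¹ ∈ D.E) :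
    g ∈ normalizer (D.E : Set G) := by
  by_contra hn
  have h : g * D.el b * g⁻¹ ∈ D.E ⊓ D.E.map (MulAut.conj g).toMonoidHom :=
    ⟨hg, D.el b, D.el_mem b, rfl⟩
  rw [D.hTI g hn, mem_bot] at h
  exact D.el_ne_one hb (conj_eq_one_iff.mp h)

theorem exists_u : ∃ u, u ∈ normalizer (D.E : Set G) ∧ u ∉ D.E := by
  by_contra h
  push Not at h
  have := card_le_of_le (show normalizer (D.E : Set G) ≤ D.E from h)
  rw [D.hNE] at this
  have := D.two_le
  omega

/-- An element of the normalizer of `E` outside `E`. -/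
def u : G := D.exists_u.choose

theorem u_mem : D.u ∈ normalizer (D.E : Set G) := D.exists_u.choose_spec.1

theorem u_notMem : D.u ∉ D.E := D.exists_u.choose_spec.2

theorem conj_u_mem {x : G} (hx : x ∈ D.E) : D.u * x * D.u⁻¹ ∈ D.E :=
  ((mem_normalizer_iff (H := D.E)).mp D.u_mem x).mp hx

/-- The action of `u` on `E`. -/
def k : ZMod D.e := D.lg ⟨D.u * D.el 1 * D.u⁻¹, D.conj_u_mem (D.el_mem 1)⟩

theorem conj_u (b : ZMod D.e) : D.u * D.el b * D.u⁻¹ = D.el (D.k * b) := by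
  have h : D.el D.k = D.u * D.el 1 * D.u⁻¹ := D.el_lg _
  have h2 : ∀ n : ℕ, D.el (D.k * n) = (D.el D.k) ^ n := fun n => by
    induction n with
    | zero => simp [D.el_zero]
    | succ n ih => rw [Nat.cast_succ, mul_add, mul_one, D.el_add, ih, pow_succ]
  rw [← ZMod.natCast_zmod_val b, h2, h, conj_pow, D.el_natCast]

theorem relIndex_E : D.E.relIndex (normalizer (D.E : Set G)) = 2 := by
  have h1 := relIndex_mul_relIndex ⊥ D.E (normalizer (D.E : Set G)) bot_le le_normalizer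
  rw [relIndex_bot_left, relIndex_bot_left, D.hNE, mul_comm 2] at h1
  exact Nat.eq_of_mul_eq_mul_left Nat.card_pos h1

theorem normalizer_cases {g : G} (hg : g ∈ normalizer (D.E : Set G)) : g ∈ D.E ∨ g * D.u⁻¹ ∈ D.E := by
  have h : (D.E.subgroupOf (normalizer (D.E : Set G))).index = 2 := D.relIndex_E
  have h1 := mul_mem_iff_of_index_two h (a := ⟨g, hg⟩) (b := ⟨D.u⁻¹, inv_mem D.u_mem⟩)
  simp only [mem_subgroupOf, coe_mul, inv_mem_iff, D.u_notMem, iff_false] at h1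
  tauto

theorem u_sq_mem : D.u * D.u ∈ D.E := by
  have h : (D.E.subgroupOf (normalizer (D.E : Set G))).index = 2 := D.relIndex_E
  have := mul_self_mem_of_index_two h ⟨D.u, D.u_mem⟩
  simpa [mem_subgroupOf] using this

theorem conj_cases {g : G} (hg : g ∈ normalizer (D.E : Set G)) :
    (g ∈ D.E ∧ ∀ b, g * D.el b * g⁻¹ = D.el b) ∨ (g ∉ D.E ∧ ∀ b, g * D.el b * g⁻¹ = D.el (D.k * b)) := by
  by_cases hgE : g ∈ D.E
  · refine Or.inl ⟨hgE, fun b => ?_⟩
    obtain ⟨c, rfl⟩ := D.exists_el hgE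
    rw [D.el_comm, mul_inv_cancel_right]
  · refine Or.inr ⟨hgE, fun b => ?_⟩
    obtain ⟨c, hc⟩ := D.exists_el ((D.normalizer_cases hg).resolve_left hgE)
    rw [← D.conj_u b, show g = D.el c * D.u by rw [hc, inv_mul_cancel_right]]
    calc D.el c * D.u * D.el b * (D.el c * D.u)⁻¹ = D.el c * (D.u * D.el b * D.u⁻¹) * (D.el c)⁻¹ := by group
      _ = _ := by rw [D.conj_u, D.el_comm, mul_inv_cancel_right]

theorem k_sq : D.k * D.k = 1 := by
  refine D.el_inj ?_
  rcases D.conj_cases (g := D.u * D.u) (le_normalizer D.u_sq_mem) with ⟨-, h⟩ | ⟨h, -⟩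
  · have h1 : D.el (D.k * (D.k * 1)) = D.el 1 := by
      rw [← D.conj_u, ← D.conj_u]
      exact Eq.trans (by group) (h 1)
    rwa [mul_one] at h1
  · exact absurd D.u_sq_mem h

theorem k_mul_k (b : ZMod D.e) : D.k * (D.k * b) = b := by rw [← mul_assoc, D.k_sq, one_mul]

theorem k_mul_eq_zero {b : ZMod D.e} : D.k * b = 0 ↔ b = 0 :=
  ⟨fun h => by rw [← D.k_mul_k b, h, mul_zero], fun h => by rw [h, mul_zero]⟩

end Setup

end CfsgLib.PrimeDegreeUnique
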