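import Cfsg.Agent.Lib.PrimeDegreeUnique.Sign
import Cfsg.Agent.Lib.Blocks.CyclicPrincipal
import Cfsg.Agent.Lib.Blocks.GaloisInv
import Cfsg.Agent.Lib.SmallGroups.BrauerFew.TuanSetup

/-!
# The complement of odd order
-/

set_option autoImplicit false
set_option maxHeartbeats 1000000

noncomputable section

namespace CfsgLib.PrimeDegreeUnique

open Cfsg Subgroup CfsgLib.Blocks CfsgLib.Blocks.PrimeSylow
open scoped ComplexConjugate

local notation "ψ" => ZMod.stdAddChar

namespace Setup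

variable {G : Type*} [Group G] [Fintype G] {p : ℕ} [hp : Fact p.Prime] (D : Setup G p)

theorem relIndex_eq :
    (centralizer ((D.P : Subgroup G) : Set G)).relIndex (normalizer ((D.P : Subgroup G) : Set G)) = D.e := by
  rw [D.hC]
  have h1 := relIndex_mul_relIndex ⊥ (D.P : Subgroup G) (normalizer ((D.P : Subgroup G) : Set G)) bot_le le_normalizer
  rw [relIndex_bot_left, relIndex_bot_left, D.hP, D.card_N] at h1
  exact Nat.eq_of_mul_eq_mul_left hp.out.pos h1

/-- The indicator of the conjugates of the non-trivial elements of `E`. -/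
theorem two_mul_count_InE [DecidablePred D.InE] :
    2 * ((Finset.univ.filter D.InE).card : ℂ) = (Nat.card G : ℂ) * ((D.e : ℂ) - 1) / D.e := by
  classical
  set θ : ZMod D.e → ℂ := fun b => if b = 0 then 0 else 1 with hθ
  have h1 := D.inner_indE θ (CfsgLib.Char.isClassFunction_const (G := G) 1)
  rw [CfsgLib.Char.classInner_one_right] at h1
  have hval : ∀ g, D.indE θ g = if D.InE g then 2 else 0 := fun g => by
    split_ifs with hg
    · obtain ⟨b, hb, hconj⟩ := hg
      rw [D.indE_conj θ hb hconj]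
      simp only [hθ, hb, D.k_mul_eq_zero, if_false]
      norm_num
    · exact D.indE_off (by simp [hθ]) hg
  rw [Finset.sum_congr rfl fun g _ => hval g, ← Finset.sum_filter, Finset.sum_const, nsmul_eq_mul] at h1
  have hs : ∑ b : ZMod D.e, θ b * conj (1 : ℂ) = (D.e : ℂ) - 1 := by
    simp only [map_one, mul_one, hθ]
    rw [Finset.sum_ite, Finset.sum_const_zero, zero_add, Finset.filter_ne', Finset.sum_const,
      Finset.card_erase_of_mem (Finset.mem_univ _), Finset.card_univ, ZMod.card, nsmul_one,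
      Nat.cast_sub (by have := D.e_two_le; omega), Nat.cast_one]
  rw [hs] at h1
  have := D.e_ne_zero
  have hG : (Nat.card G : ℂ) ≠ 0 := CfsgLib.Char.card_ne_zero'
  field_simp at h1 ⊢
  linear_combination h1

/-- The indicator of the elements of order divisible by `p`. -/
theorem count_psing :
    (p : ℂ) * D.e * ((Finset.univ.filter fun g : G => p ∣ orderOf g).card : ℂ) =
      (Nat.card G : ℂ) * ((p : ℂ) - 1) := by
  classical
  let _ := Fintype.ofFinite (D.P : Subgroup G)
  set θ : ↥(D.P : Subgroup G) → ℂ := fun x => if x = 1 then 0 else 1 with hθ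
  have hval : ∀ g, indFun (D.P : Subgroup G) θ g = if p ∣ orderOf g then (D.e : ℂ) else 0 := by
    intro g
    rw [CfsgLib.Char.indFun_apply]
    split_ifs with hg
    · obtain ⟨c, hc, hc1⟩ := D.exists_conj_P hg
      have hterm : ∀ x : G, extendByZero (D.P : Subgroup G) θ (x⁻¹ * g * x) =
          if c * x ∈ normalizer ((D.P : Subgroup G) : Set G) then 1 else 0 := by
        intro x
        have heq : x⁻¹ * g * x = (c * x)⁻¹ * (c * g * c⁻¹) * (c * x) := by group
        rw [heq]
        split_ifs with hN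
        · have hmem : (c * x)⁻¹ * (c * g * c⁻¹) * (c * x) ∈ (D.P : Subgroup G) := by
            simpa using D.conj_mem_P (inv_mem hN) hc
          rw [CfsgLib.Char.extendByZero_of_mem _ hmem, hθ]
          simp only
          rw [if_neg]
          intro h
          have h' : (c * x)⁻¹ * (c * g * c⁻¹) * (c * x) = 1 := congrArg Subtype.val h
          exact hc1 (by
            calc c * g * c⁻¹ = c * x * ((c * x)⁻¹ * (c * g * c⁻¹) * (c * x)) * (c * x)⁻¹ := by group
              _ = 1 := by rw [h']; group)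
        · refine CfsgLib.Char.extendByZero_of_notMem _ fun hmem => ?_
          exact hc1 (D.hfree hN hc (le_normalizer hmem))
      rw [Finset.sum_congr rfl fun x _ => hterm x, ← Finset.sum_filter, Finset.sum_const, nsmul_one,
        ← Fintype.card_subtype, ← Nat.card_eq_fintype_card,
        Nat.card_congr (Equiv.subtypeEquiv (Equiv.mulLeft c) (p := fun x => c * x ∈ normalizer ((D.P : Subgroup G) : Set G))
          (q := fun y => y ∈ normalizer ((D.P : Subgroup G) : Set G)) fun x => Iff.rfl), D.card_N, D.hP,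
        Nat.cast_mul, ← mul_assoc, inv_mul_cancel₀ (Nat.cast_ne_zero.mpr hp.out.ne_zero), one_mul]
    · rw [Finset.sum_eq_zero, mul_zero]
      intro x _
      by_cases hm : x⁻¹ * g * x ∈ (D.P : Subgroup G)
      · rw [CfsgLib.Char.extendByZero_of_mem _ hm, hθ]
        simp only
        rw [if_pos]
        refine Subtype.ext ?_
        by_contra h1
        refine hg ?_
        have h2 := D.orderOf_mem hm h1
        have h3 := (MulAut.conj x⁻¹).orderOf_eq g
        simp only [MulAut.conj_apply, inv_inv] at h3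
        rw [← h2, h3]
      · exact CfsgLib.Char.extendByZero_of_notMem _ hm
  have h1 : classInner (indFun (D.P : Subgroup G) θ) (fun _ => 1) = classInner θ (fun _ => 1) :=
    CfsgLib.Char.frobenius_reciprocity _ _ (CfsgLib.Char.isClassFunction_const 1)
  rw [CfsgLib.Char.classInner_one_right, CfsgLib.Char.classInner_one_right, Finset.sum_congr rfl fun g _ => hval g,
    ← Finset.sum_filter, Finset.sum_const, nsmul_eq_mul, D.hP] at h1
  have hs : ∑ x : (D.P : Subgroup G), θ x = (p : ℂ) - 1 := by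
    simp only [hθ]
    rw [Finset.sum_ite, Finset.sum_const_zero, zero_add, Finset.filter_ne', Finset.sum_const,
      Finset.card_erase_of_mem (Finset.mem_univ _), Finset.card_univ, ← Nat.card_eq_fintype_card, D.hP, nsmul_one,
      Nat.cast_sub hp.out.one_le, Nat.cast_one]
  rw [hs] at h1
  have hG : (Nat.card G : ℂ) ≠ 0 := CfsgLib.Char.card_ne_zero'
  have hp0 : (p : ℂ) ≠ 0 := Nat.cast_ne_zero.mpr hp.out.ne_zero
  field_simp at h1
  linear_combination h1

include D in
theorem int_dvd_small {z : ℤ} (hz : (p : ℤ) ∣ z) (h1 : -(p : ℤ) < z) (h2 : z < p) : z = 0 := by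
  obtain ⟨q, rfl⟩ := hz
  rcases lt_trichotomy q 0 with h | h | h
  · nlinarith
  · rw [h, mul_zero]
  · nlinarith

/-- The degree of the exceptional characters and their values. -/
theorem exists_theta (he : Odd D.e) : ∃ θ : IrrCharacter G, (θ : G → ℂ) 1 = D.e ∧
    ∀ g, D.InE g → (θ : G → ℂ) g = 0 := by
  classical
  obtain ⟨M, hM⟩ := exists_isPModular hp.out
  have := hM.2.1
  obtain ⟨X, Y, hB, hdisj, hXc, hYc, -, εX, ε, hX, hε, hYdeg, hYreg, hYsum⟩ :=
    principal_block_prime_sylow D.P hM D.hP D.e D.relIndex_eq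
  have he2 := D.e_two_le
  have h2e := D.two_e_le
  have hp3 := D.three_le
  -- the element `x`
  set x : G := pw D.P D.hP 1 with hx
  have h10 : (1 : ZMod p) ≠ 0 := one_ne_zero
  have hxP : x ∈ (D.P : Subgroup G) := pw_mem D.P D.hP 1
  have hx1 : x ≠ 1 := fun h => h10 ((pw_eq_one_iff D.P D.hP).mp h)
  have hzero : ∀ Z : IrrCharacter G, Z ∉ principalBlock M G → (Z : G → ℂ) x = 0 := by
    intro Z hZ
    have h1 := column_inner (M := M) D.P hM D.hP h10 h10
    rw [if_pos (IsConj.refl _)] at h1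
    have h2 := CfsgLib.Char.second_orthogonality x x
    have hcc : centralizer ({x} : Set G) = (D.P : Subgroup G) := by
      refine le_antisymm (fun g hg => D.centralizer_mem hxP hx1 (mem_centralizer_singleton_iff.mp hg)) fun g hg => ?_
      rw [mem_centralizer_singleton_iff]
      rw [← D.hC] at hg
      exact (mem_centralizer_iff.mp hg x hxP).symm
    rw [if_pos (IsConj.refl _), hcc, D.hP, ← h1, ← sub_eq_zero, ← Finset.sum_sub_distrib] at h2
    have h3 : ∑ Z : IrrCharacter G, (if Z ∈ principalBlock M G then (0 : ℝ) else Complex.normSq ((Z : G → ℂ) x)) = 0 := by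
      refine Complex.ofReal_injective ?_
      rw [Complex.ofReal_sum, Complex.ofReal_zero, ← h2]
      refine Finset.sum_congr rfl fun Z _ => ?_
      rw [← hx]
      split_ifs <;> simp [Complex.mul_conj]
    have h4 := (Finset.sum_eq_zero_iff_of_nonneg fun Z _ => by
      split_ifs <;> simp [Complex.normSq_nonneg]).mp h3 Z (Finset.mem_univ _)
    rw [if_neg hZ] at h4
    exact Complex.normSq_eq_zero.mp h4
  have hdeg : ∀ Z : IrrCharacter G, (Z : G → ℂ) 1 = (charDegree (Z : G → ℂ) : ℂ) := fun Z =>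
    charDegree_eq (CfsgLib.Char.isCharacter_of_isIrr Z.2)
  have hXval : ∀ Z ∈ X, ∀ y ∈ (D.P : Subgroup G), y ≠ 1 → (Z : G → ℂ) y = (εX Z : ℂ) := fun Z hZ y hy hy1 => by
    have h := (hX Z hZ).2.2 y hy hy1 1 (one_mem _) (by rw [orderOf_one]; exact hp.out.not_dvd_one)
    rwa [mul_one] at h
  have hnotY : ∀ (Z : IrrCharacter G) (d : ℕ), (Z : G → ℂ) 1 = d → (p : ℤ) ∣ (d : ℤ) - 1 → Z ∉ Y := by
    intro Z d hd hd1 hZ
    have h := hYdeg Z hZ
    have hdd : charDegree (Z : G → ℂ) = d := by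
      have := (hdeg Z).symm.trans hd
      exact_mod_cast this
    rw [hdd, Int.modEq_iff_dvd] at h
    have h3 := dvd_add h hd1
    rw [sub_add_sub_cancel] at h3
    rcases hε with h4 | h4 <;> rw [h4] at h3
    · have := D.int_dvd_small h3 (by omega) (by omega)
      omega
    · have := D.int_dvd_small h3 (by omega) (by omega)
      omega
  have h1B : (CfsgLib.Char.irrOne : IrrCharacter G) ∈ principalBlock M G := irrOne_mem_principalBlock
  have h1X : (CfsgLib.Char.irrOne : IrrCharacter G) ∈ X := by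
    rw [hB] at h1B
    exact h1B.resolve_right (hnotY _ 1 (by simp [CfsgLib.Char.irrOne_apply]) (by simp))
  -- the characters `W j`
  set J : Finset (ZMod D.e) := Finset.univ.erase 0 with hJ
  have hk := D.k_odd he
  let Wf : {j : ZMod D.e // j ≠ 0} → IrrCharacter G := fun j => D.Wc j (D.k_mul_ne he j.2)
  set 𝒲 : Finset (IrrCharacter G) := Finset.univ.image Wf with h𝒲
  set m := 𝒲.card with hm
  have hfib : ∀ Z ∈ 𝒲, (Finset.univ.filter fun j => Wf j = Z).card = 2 := by
    intro Z hZ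
    obtain ⟨j, -, rfl⟩ := Finset.mem_image.mp hZ
    have hj' : -(j : ZMod D.e) ≠ 0 := neg_ne_zero.mpr j.2
    have heq : (Finset.univ.filter fun i => Wf i = Wf j) = {j, ⟨-(j : ZMod D.e), hj'⟩} := by
      ext i
      simp only [Finset.mem_filter, Finset.mem_univ, true_and, Finset.mem_insert, Finset.mem_singleton]
      constructor
      · intro h
        rcases D.W_inj (D.k_mul_ne he i.2) (D.k_mul_ne he j.2) (congrArg Subtype.val h) with h' | h'
        · exact Or.inl (Subtype.ext h')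
        · exact Or.inr (Subtype.ext (h'.trans (by rw [hk, neg_one_mul])))
      · rintro (rfl | rfl)
        · rfl
        · refine Subtype.ext ?_
          show D.W (-(j : ZMod D.e)) = D.W j
          rw [← D.W_kmul (j := (j : ZMod D.e)), hk, neg_one_mul]
    rw [heq, Finset.card_pair]
    intro h
    have h' : (j : ZMod D.e) = -(j : ZMod D.e) := congrArg Subtype.val h
    exact D.k_mul_ne he j.2 (by rw [hk, neg_one_mul]; exact h'.symm)
  have hcount : 2 * m + 1 = D.e := by
    have h := Finset.card_eq_sum_card_image Wf Finset.univ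
    rw [Finset.sum_congr rfl hfib, Finset.sum_const, smul_eq_mul, Finset.card_univ, Fintype.card_subtype_compl,
      Fintype.card_subtype_eq, ZMod.card] at h
    show 2 * 𝒲.card + 1 = D.e
    omega
  have hW1 : ∀ j : {j : ZMod D.e // j ≠ 0}, (Wf j : G → ℂ) 1 = ((p + 1 : ℕ) : ℂ) := fun j => by
    show D.W j 1 = _
    rw [D.W_one]; push_cast; rfl
  have hWX : ∀ Z ∈ 𝒲, Z ∈ X ∧ εX Z = 1 := by
    intro Z hZ
    obtain ⟨j, -, rfl⟩ := Finset.mem_image.mp hZ
    have hv : (Wf j : G → ℂ) x = 1 := D.W_mem_P _ hxP hx1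
    have hmem : Wf j ∈ principalBlock M G := by
      by_contra h
      rw [hzero _ h] at hv
      exact zero_ne_one hv
    rw [hB] at hmem
    have hX' := hmem.resolve_right (hnotY _ (p + 1) (hW1 j) (by simp))
    refine ⟨hX', ?_⟩
    rw [hXval _ hX' x hxP hx1] at hv
    exact_mod_cast hv
  have hε1 : εX CfsgLib.Char.irrOne = 1 := by
    have := hXval _ h1X x hxP hx1
    rw [CfsgLib.Char.irrOne_apply] at this
    exact_mod_cast this.symm
  let _ := Fintype.ofFinite (D.P : Subgroup G)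
  have hsumP : ∀ Z : IrrCharacter G, Z ≠ CfsgLib.Char.irrOne → Z ∉ 𝒲 →
      ∃ a d : ℕ, (Z : G → ℂ) 1 = d ∧ ∑ y : (D.P : Subgroup G), (Z : G → ℂ) y = (p : ℂ) * a ∧ p * a ≤ d := by
    intro Z h1 hW
    refine D.sum_P_le he Z (fun h => h1 (Subtype.ext h)) fun j hj h => hW ?_
    exact Finset.mem_image.mpr ⟨⟨j, hj⟩, Finset.mem_univ _, Subtype.ext h.symm⟩
  set Xf := (Set.toFinite X).toFinset with hXf
  set T : Finset (IrrCharacter G) := insert CfsgLib.Char.irrOne 𝒲 with hT
  have h1W : (CfsgLib.Char.irrOne : IrrCharacter G) ∉ 𝒲 := fun h => by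
    obtain ⟨j, -, hj⟩ := Finset.mem_image.mp h
    have := hW1 j
    rw [hj, CfsgLib.Char.irrOne_apply] at this
    have h2 : 1 = p + 1 := by exact_mod_cast this
    omega
  have hTX : T ⊆ Xf := by
    intro Z hZ
    rw [hXf, Set.Finite.mem_toFinset]
    rcases Finset.mem_insert.mp hZ with rfl | h
    · exact h1X
    · exact (hWX Z h).1
  have hothers : ∀ Z ∈ Xf \ T, εX Z = -1 ∧ p - 1 ≤ charDegree (Z : G → ℂ) := by
    intro Z hZ
    rw [Finset.mem_sdiff, hXf, Set.Finite.mem_toFinset, hT, Finset.mem_insert, not_or] at hZ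
    obtain ⟨hZX, hne1, hneW⟩ := hZ
    obtain ⟨a, d, hd, hs, hle⟩ := hsumP Z hne1 hneW
    rw [← Finset.add_sum_erase Finset.univ _ (Finset.mem_univ (1 : (D.P : Subgroup G))),
      Finset.sum_congr rfl fun (y : ↥(D.P : Subgroup G)) hy => hXval Z hZX y y.2
        (fun h => Finset.ne_of_mem_erase hy (Subtype.ext h)),
      Finset.sum_const, Finset.card_erase_of_mem (Finset.mem_univ _), Finset.card_univ, ← Nat.card_eq_fintype_card,
      D.hP, OneMemClass.coe_one, hd, nsmul_eq_mul, Nat.cast_sub hp.out.one_le, Nat.cast_one] at hs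
    have hs' : (d : ℤ) + ((p : ℤ) - 1) * εX Z = (p : ℤ) * a := by exact_mod_cast hs
    have hle' : (p : ℤ) * a ≤ d := by exact_mod_cast hle
    rcases (hX Z hZX).1 with h | h
    · exfalso
      rw [h] at hs'
      omega
    · refine ⟨h, ?_⟩
      have hdd : charDegree (Z : G → ℂ) = d := by
        have := (hdeg Z).symm.trans hd
        exact_mod_cast this
      rw [h] at hs'
      have hd0 : d ≠ 0 := fun h0 => CfsgLib.Char.irr_one_ne_zero Z.2 (by rw [hd, h0, Nat.cast_zero])
      rw [hdd]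
      by_contra hlt
      have h5 : (p : ℤ) ∣ (d : ℤ) + 1 := ⟨a + 1, by linear_combination hs'⟩
      have := D.int_dvd_small h5 (by omega) (by omega)
      omega
  -- the exceptional characters
  set Yf := (Set.toFinite Y).toFinset with hYf
  have hYne : Yf.Nonempty := by
    rw [hYf, Set.Finite.toFinset_nonempty]
    have h : 0 < Nat.card Y := by
      rw [hYc]
      exact Nat.div_pos (by omega) (by omega)
    exact Set.nonempty_coe_sort.mp (Nat.card_pos_iff.mp h).1
  obtain ⟨θ, hθf⟩ := hYne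
  have hθY : θ ∈ Y := by rwa [hYf, Set.Finite.mem_toFinset] at hθf
  set d := charDegree (θ : G → ℂ) with hd
  have hnd : ¬ p ∣ orderOf (1 : G) := by rw [orderOf_one]; exact hp.out.not_dvd_one
  have hsame : ∀ η ∈ Y, (η : G → ℂ) 1 = (d : ℂ) := fun η hη => by
    rw [hYreg η hη θ hθY 1 hnd, hdeg]
  have hXsum : (ε : ℂ) * d = ∑ Z ∈ Xf, (εX Z : ℂ) * (Z : G → ℂ) 1 := by
    have h := hYsum θ hθY 1 hnd
    rw [hsame θ hθY, finsum_mem_eq_finite_toFinset_sum _ (Set.toFinite X)] at h
    exact h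
  have hd0 : d ≠ 0 := fun h0 => CfsgLib.Char.irr_one_ne_zero θ.2 (by rw [hsame θ hθY, h0, Nat.cast_zero])
  have hεpos : ε = 1 := by
    have hcol : ∀ i : ZMod p, i ≠ 0 → ∑ η ∈ Yf, (η : G → ℂ) (pw D.P D.hP i) = -(ε : ℂ) := by
      intro i hi
      have h := column_regular (M := M) D.P hM D.hP hi hnd
      rw [← Finset.sum_filter] at h
      have hfil : Finset.univ.filter (fun χ => χ ∈ principalBlock M G) = Xf ∪ Yf := by
        ext χ
        simp only [Finset.mem_filter, Finset.mem_univ, true_and, Finset.mem_union, hXf, hYf, Set.Finite.mem_toFinset, hB,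
          Set.mem_union]
      have hdj : Disjoint Xf Yf := by
        rw [Finset.disjoint_left]
        intro χ hχ hχ'
        rw [hXf, Set.Finite.mem_toFinset] at hχ
        rw [hYf, Set.Finite.mem_toFinset] at hχ'
        exact Set.disjoint_left.mp hdisj hχ hχ'
      rw [hfil, Finset.sum_union hdj] at h
      rw [Finset.sum_congr rfl fun (χ : IrrCharacter G) hχ => show (χ : G → ℂ) (pw D.P D.hP i) * (χ : G → ℂ) 1 =
          (εX χ : ℂ) * (χ : G → ℂ) 1 by
        rw [hXval χ (by simpa [hXf] using hχ) _ (pw_mem D.P D.hP i) (fun h0 => hi ((pw_eq_one_iff D.P D.hP).mp h0))],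
        ← hXsum, Finset.sum_congr rfl fun (η : IrrCharacter G) hη => show (η : G → ℂ) (pw D.P D.hP i) * (η : G → ℂ) 1 =
          (η : G → ℂ) (pw D.P D.hP i) * (d : ℂ) by rw [hsame η (by simpa [hYf] using hη)],
        ← Finset.sum_mul, ← add_mul, mul_eq_zero] at h
      exact eq_neg_of_add_eq_zero_right (h.resolve_right (Nat.cast_ne_zero.mpr hd0))
    have htot : ∑ η ∈ Yf, ∑ y ∈ (Finset.univ : Finset (D.P : Subgroup G)).erase 1, (η : G → ℂ) y =
        ((p : ℂ) - 1) * -(ε : ℂ) := by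
      rw [Finset.sum_comm, Finset.sum_congr rfl fun (y : ↥(D.P : Subgroup G)) hy => show
          ∑ η ∈ Yf, (η : G → ℂ) (y : G) = -(ε : ℂ) by
        obtain ⟨i, hi⟩ := pw_surjOn D.P D.hP y.2
        rw [← hi]
        refine hcol i fun h0 => Finset.ne_of_mem_erase hy (Subtype.ext ?_)
        rw [← hi, h0, pw_zero]; rfl,
        Finset.sum_const, Finset.card_erase_of_mem (Finset.mem_univ _), Finset.card_univ, ← Nat.card_eq_fintype_card,
        D.hP, nsmul_eq_mul, Nat.cast_sub hp.out.one_le, Nat.cast_one]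
    have hle : ∀ η ∈ Yf, (∑ y ∈ (Finset.univ : Finset (D.P : Subgroup G)).erase 1, (η : G → ℂ) y).re ≤ 0 := by
      intro η hη
      have hηY : η ∈ Y := by simpa [hYf] using hη
      have hne1 : η ≠ CfsgLib.Char.irrOne := fun h => Set.disjoint_left.mp hdisj h1X (h ▸ hηY)
      have hneW : η ∉ 𝒲 := fun h => Set.disjoint_left.mp hdisj (hWX η h).1 hηY
      obtain ⟨a, d', hd', hs, hle⟩ := hsumP η hne1 hneW
      rw [← Finset.add_sum_erase Finset.univ _ (Finset.mem_univ (1 : (D.P : Subgroup G))), OneMemClass.coe_one,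
        hd'] at hs
      rw [eq_sub_of_add_eq' hs]
      simp only [Complex.sub_re, Complex.mul_re, Complex.natCast_re, Complex.natCast_im, mul_zero, sub_zero]
      have : ((p : ℝ) * a) ≤ (d' : ℝ) := by exact_mod_cast hle
      linarith
    have hre := Finset.sum_nonpos hle
    rw [← Complex.re_sum, htot] at hre
    simp only [Complex.mul_re, Complex.sub_re, Complex.natCast_re, Complex.one_re, Complex.neg_re, Complex.intCast_re,
      Complex.neg_im, Complex.intCast_im, neg_zero, mul_zero, sub_zero] at hre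
    have hp1 : (1 : ℝ) < p := by exact_mod_cast hp.out.one_lt
    rcases hε with h | h
    · exact h
    · exfalso
      rw [h] at hre
      push_cast at hre
      linarith
  have hle : d ≤ D.e := by
    rw [hεpos, Int.cast_one, one_mul, ← Finset.sum_sdiff hTX, hT, Finset.sum_insert h1W,
      Finset.sum_congr rfl fun Z hZ => show (εX Z : ℂ) * (Z : G → ℂ) 1 = -(charDegree (Z : G → ℂ) : ℂ) by
        rw [(hothers Z hZ).1, hdeg]; push_cast; ring,
      Finset.sum_congr rfl (g := fun _ => ((p + 1 : ℕ) : ℂ)) fun Z hZ => show (εX Z : ℂ) * (Z : G → ℂ) 1 = _ by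
        obtain ⟨j, -, rfl⟩ := Finset.mem_image.mp hZ
        rw [(hWX _ hZ).2, hW1]; simp,
      Finset.sum_const, nsmul_eq_mul, hε1, CfsgLib.Char.irrOne_apply, Int.cast_one, mul_one,
      Finset.sum_neg_distrib] at hXsum
    have hXf' : Xf.card = D.e := by
      rw [← hXc, Nat.card_coe_set_eq, Set.ncard_eq_toFinset_card X (Set.toFinite X)]
    have hcardO : (Xf \ T).card = m := by
      rw [Finset.card_sdiff_of_subset hTX, hXf', hT, Finset.card_insert_of_notMem h1W]
      omega
    have hnat : d + ∑ Z ∈ Xf \ T, charDegree (Z : G → ℂ) = 1 + m * (p + 1) := by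
      have h : ((d + ∑ Z ∈ Xf \ T, charDegree (Z : G → ℂ) : ℕ) : ℂ) = ((1 + m * (p + 1) : ℕ) : ℂ) := by
        push_cast
        rw [hXsum]
        push_cast
        ring
      exact_mod_cast h
    have hlow : m * (p - 1) ≤ ∑ Z ∈ Xf \ T, charDegree (Z : G → ℂ) := by
      rw [← hcardO, ← smul_eq_mul, ← Finset.sum_const]
      exact Finset.sum_le_sum fun Z hZ => (hothers Z hZ).2
    obtain ⟨w, hw⟩ : ∃ w, p = w + 1 := ⟨p - 1, by omega⟩
    rw [hw] at hnat hlow
    simp only [Nat.add_sub_cancel, mul_add, mul_one] at hnat hlow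
    omega
  have hde : d = D.e := by
    have h := hYdeg θ hθY
    rw [hεpos, one_mul, ← hd, Int.modEq_iff_dvd] at h
    have := D.int_dvd_small h (by omega) (by omega)
    omega
  have hne1 : θ ≠ CfsgLib.Char.irrOne := fun h => Set.disjoint_left.mp hdisj h1X (h ▸ hθY)
  refine ⟨θ, by rw [hsame θ hθY, hde], fun g hg => ?_⟩
  obtain ⟨b, hb, hconj⟩ := hg
  rw [(CfsgLib.Char.isClassFunction_iff.mp (CfsgLib.Char.isClassFunction_of_isIrr θ.2) _ _ hconj).symm,
    D.value_el θ hb, neg_eq_zero]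
  refine Finset.sum_eq_zero fun j _ => ?_
  by_cases hj : j = 0
  · rw [hj, D.F_zero, CfsgLib.Char.classInner_zero_left, mul_zero]
  rw [D.inner_F_eq_zero (fun h => hne1 (Subtype.ext h)) ?_ (D.k_mul_ne he hj) ?_, mul_zero]
  · intro h
    have h2 := hsame θ hθY
    rw [h, D.deg] at h2
    have h3 : p = d := by exact_mod_cast h2
    omega
  · intro h
    have h2 := hsame θ hθY
    rw [h, D.W_one] at h2
    have h3 : p + 1 = d := by exact_mod_cast h2
    omega

theorem main_odd (he : Odd D.e) : 2 * D.e + 1 = p ∧ Nat.card (Sylow p G) = p + 1 := by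
  classical
  obtain ⟨θ, hθ1, hθE⟩ := D.exists_theta he
  have he2 := D.e_two_le
  have h2e := D.two_e_le
  have hk := D.k_odd he
  set f : G → ℂ := (θ : G → ℂ) * fun g => conj ((θ : G → ℂ) g) with hf
  have hfc : IsCharacter G f := by
    rw [hf]
    exact CfsgLib.Char.isCharacter_mul (CfsgLib.Char.isCharacter_of_isIrr θ.2)
      (CfsgLib.Char.isCharacter_conj (CfsgLib.Char.isCharacter_of_isIrr θ.2))
  have hfE : ∀ g, D.InE g → f g = 0 := fun g hg => by simp [hf, hθE g hg]
  obtain ⟨n, hn, hninner⟩ := CfsgLib.Char.char_decomp hfc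
  have hf1 : classInner f (fun _ => 1) = 1 := by
    rw [CfsgLib.Char.classInner_one_right]
    have h := CfsgLib.Char.classInner_irr_self θ.2
    rw [CfsgLib.Char.classInner_def] at h
    simpa [hf] using h
  have hfF : ∀ j, classInner f (D.F j) = 0 := fun j => by
    rw [CfsgLib.Char.classInner_def, Finset.sum_eq_zero, mul_zero]
    intro g _
    by_cases hg : D.InE g
    · rw [hfE g hg, zero_mul]
    · rw [D.F_off j hg, map_zero, mul_zero]
  set c := n D.χ with hc
  have hfW : ∀ j (hj : D.k * j ≠ j), (n (D.Wc j hj) : ℂ) = 1 + c := fun j hj => by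
    rw [← hninner, show ((D.Wc j hj : IrrCharacter G) : G → ℂ) = D.W j from rfl, D.W_eq,
      CfsgLib.Char.classInner_sub_right, CfsgLib.Char.classInner_add_right, hf1, hninner, hfF, sub_zero]
  let Wf : {j : ZMod D.e // j ≠ 0} → IrrCharacter G := fun j => D.Wc j (D.k_mul_ne he j.2)
  set 𝒲 : Finset (IrrCharacter G) := Finset.univ.image Wf with h𝒲
  set m := 𝒲.card with hm
  have hcount : 2 * m + 1 = D.e := by
    have hfib : ∀ Z ∈ 𝒲, (Finset.univ.filter fun j => Wf j = Z).card = 2 := by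
      intro Z hZ
      obtain ⟨j, -, rfl⟩ := Finset.mem_image.mp hZ
      have hj' : -(j : ZMod D.e) ≠ 0 := neg_ne_zero.mpr j.2
      have heq : (Finset.univ.filter fun i => Wf i = Wf j) = {j, ⟨-(j : ZMod D.e), hj'⟩} := by
        ext i
        simp only [Finset.mem_filter, Finset.mem_univ, true_and, Finset.mem_insert, Finset.mem_singleton]
        constructor
        · intro h
          rcases D.W_inj (D.k_mul_ne he i.2) (D.k_mul_ne he j.2) (congrArg Subtype.val h) with h' | h'
          · exact Or.inl (Subtype.ext h')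
          · exact Or.inr (Subtype.ext (h'.trans (by rw [hk, neg_one_mul])))
        · rintro (rfl | rfl)
          · rfl
          · refine Subtype.ext ?_
            show D.W (-(j : ZMod D.e)) = D.W j
            rw [← D.W_kmul (j := (j : ZMod D.e)), hk, neg_one_mul]
      rw [heq, Finset.card_pair]
      intro h
      have h' : (j : ZMod D.e) = -(j : ZMod D.e) := congrArg Subtype.val h
      exact D.k_mul_ne he j.2 (by rw [hk, neg_one_mul]; exact h'.symm)
    have h := Finset.card_eq_sum_card_image Wf Finset.univ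
    rw [Finset.sum_congr rfl hfib, Finset.sum_const, smul_eq_mul, Finset.card_univ, Fintype.card_subtype_compl,
      Fintype.card_subtype_eq, ZMod.card] at h
    show 2 * 𝒲.card + 1 = D.e
    omega
  have hW1 : ∀ Z ∈ 𝒲, (Z : G → ℂ) 1 = ((p + 1 : ℕ) : ℂ) ∧ n Z = 1 + c := by
    intro Z hZ
    obtain ⟨j, -, rfl⟩ := Finset.mem_image.mp hZ
    refine ⟨by show D.W j 1 = _; rw [D.W_one]; push_cast; rfl, ?_⟩
    have := hfW j (D.k_mul_ne he j.2)
    exact_mod_cast this
  have hn1 : n CfsgLib.Char.irrOne = 1 := by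
    have h := (hninner CfsgLib.Char.irrOne).symm.trans hf1
    exact_mod_cast h
  have h1W : (CfsgLib.Char.irrOne : IrrCharacter G) ∉ 𝒲 := fun h => by
    have h2 := (hW1 _ h).1
    rw [CfsgLib.Char.irrOne_apply] at h2
    have h3 : 1 = p + 1 := by exact_mod_cast h2
    omega
  have hχW : D.χ ∉ 𝒲 := fun h => by
    have h2 := (hW1 _ h).1
    rw [D.deg] at h2
    have h3 : p = p + 1 := by exact_mod_cast h2
    omega
  have hχ1 : D.χ ≠ CfsgLib.Char.irrOne := fun h => D.chi_ne_one (congrArg Subtype.val h)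
  set T : Finset (IrrCharacter G) := insert D.χ (insert CfsgLib.Char.irrOne 𝒲) with hT
  have hχT : D.χ ∉ insert CfsgLib.Char.irrOne 𝒲 := by simp [hχ1, hχW]
  have hd1 : ∀ Z : IrrCharacter G, ∃ d : ℕ, 0 < d ∧ (Z : G → ℂ) 1 = d := fun Z =>
    CfsgLib.Char.exists_degree_pos Z.2
  choose dg hdg0 hdg using hd1
  have hTsum : ∀ g, f g = (∑ Z ∈ Finset.univ \ T, (n Z : ℂ) * (Z : G → ℂ) g) +
      ((c : ℂ) * (D.χ : G → ℂ) g + (1 + ∑ Z ∈ 𝒲, ((1 + c : ℕ) : ℂ) * (Z : G → ℂ) g)) := by
    intro g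
    have h := congrFun hn g
    rw [Finset.sum_apply, ← Finset.sum_sdiff (Finset.subset_univ T)] at h
    have h2 : ∑ Z ∈ T, ((n Z : ℂ) • (Z : G → ℂ)) g =
        (c : ℂ) * (D.χ : G → ℂ) g + (1 + ∑ Z ∈ 𝒲, ((1 + c : ℕ) : ℂ) * (Z : G → ℂ) g) := by
      rw [hT, Finset.sum_insert hχT, Finset.sum_insert h1W]
      simp only [Pi.smul_apply, smul_eq_mul, hn1, CfsgLib.Char.irrOne_apply, ← hc, Nat.cast_one, mul_one]
      congr 2
      exact Finset.sum_congr rfl fun Z hZ => by rw [(hW1 Z hZ).2]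
    rw [h2] at h
    simpa only [Pi.smul_apply, smul_eq_mul] using h
  have hat1 : D.e ^ 2 = c * p + (1 + m * ((1 + c) * (p + 1))) + ∑ Z ∈ Finset.univ \ T, n Z * dg Z := by
    have h := hTsum 1
    have h3 : ∑ Z ∈ Finset.univ \ T, (n Z : ℂ) * (Z : G → ℂ) 1 =
        ((∑ Z ∈ Finset.univ \ T, n Z * dg Z : ℕ) : ℂ) := by
      push_cast
      exact Finset.sum_congr rfl fun Z _ => by rw [hdg]
    have h4 : ∑ Z ∈ 𝒲, ((1 + c : ℕ) : ℂ) * (Z : G → ℂ) 1 = (m : ℂ) * (((1 + c) * (p + 1) : ℕ) : ℂ) := by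
      rw [Finset.sum_congr rfl (g := fun _ => (((1 + c) * (p + 1) : ℕ) : ℂ)) fun Z hZ => by
        rw [(hW1 Z hZ).1]; push_cast; rfl, Finset.sum_const, nsmul_eq_mul]
    rw [h3, h4, D.deg] at h
    rw [hf, Pi.mul_apply, hθ1, map_natCast] at h
    have h' : ((D.e ^ 2 : ℕ) : ℂ) =
        ((c * p + (1 + m * ((1 + c) * (p + 1))) + ∑ Z ∈ Finset.univ \ T, n Z * dg Z : ℕ) : ℂ) := by
      rw [Nat.cast_add _ (∑ Z ∈ Finset.univ \ T, n Z * dg Z)]
      push_cast at h ⊢
      linear_combination h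
    exact_mod_cast h'
  have hm0 : 0 < m := by omega
  obtain ⟨u, hu⟩ : ∃ u, p = 2 * D.e + 1 + u := ⟨p - (2 * D.e + 1), by omega⟩
  rw [← hcount] at hat1
  rw [← hcount] at hu
  have hexp : (2 * m + 1) ^ 2 = 1 + m * (4 * m + 4) := by ring
  have hzero : c = 0 ∧ u = 0 ∧ ∑ Z ∈ Finset.univ \ T, n Z * dg Z = 0 := by
    rw [hexp, hu] at hat1
    set S := ∑ Z ∈ Finset.univ \ T, n Z * dg Z
    have h1 : m * ((1 + c) * (2 * (2 * m + 1) + 1 + u + 1)) =
        m * (4 * m + 4) + m * u + m * (c * (2 * (2 * m + 1) + 1 + u + 1)) := by ring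
    rw [h1] at hat1
    have hcp : c * (2 * (2 * m + 1) + 1 + u) = 0 := by omega
    have hmu : m * u = 0 := by omega
    refine ⟨(mul_eq_zero.mp hcp).resolve_right (by omega), (mul_eq_zero.mp hmu).resolve_left (by omega), by omega⟩
  obtain ⟨hc0, hu0, hS⟩ := hzero
  have hp2 : 2 * D.e + 1 = p := by omega
  refine ⟨hp2, ?_⟩
  have hX := D.succ_le_card_sylow
  by_cases hm1 : m = 1
  · have he3 : D.e = 3 := by omega
    have hp7 : p = 7 := by omega
    have hmod : Nat.card (Sylow p G) % p = 1 := CfsgLib.SmallGroups.mod_eq_one_card_sylow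
    have hfact := D.dvd_fact
    rw [D.card_G] at hfact
    have h9 : ¬ 9 ∣ Nat.card G := by
      intro h9
      have : Fact (Nat.Prime 3) := ⟨Nat.prime_three⟩
      obtain ⟨K, hK, hEK⟩ := Sylow.exists_subgroup_card_pow_prime_le 3 (n := 1) (m := 2) (by rw [show 3 ^ 2 = 9 from rfl]; exact h9)
        D.E (by rw [pow_one]; exact he3) (by norm_num)
      have hcomm : ∀ a ∈ K, ∀ b ∈ K, a * b = b * a := fun a ha b hb => by
        exact congrArg Subtype.val
          ((IsPGroup.isMulCommutative_of_card_eq_prime_sq (p := 3) hK).is_comm.comm (⟨a, ha⟩ : K) ⟨b, hb⟩)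
      have hKN : K ≤ normalizer (D.E : Set G) := fun a ha => by
        have hone : (1 : ZMod D.e) ≠ 0 := by
          have : Fact (1 < D.e) := ⟨D.e_two_le⟩
          exact one_ne_zero
        refine D.mem_normalizer_of_conj hone ?_
        rw [hcomm a ha _ (hEK (D.el_mem 1)), mul_inv_cancel_right]
        exact D.el_mem 1
      have h := card_dvd_of_le hKN
      rw [hK, D.hNE, show Nat.card D.E = 3 from he3] at h
      norm_num at h
    rw [D.card_G] at h9
    generalize Nat.card (Sylow p G) = N at hmod hX hfact h9 ⊢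
    subst hp7
    rw [he3] at hfact h9
    have hN : N ∣ 240 := by
      have : 21 * N ∣ 21 * 240 := by simpa [Nat.factorial] using hfact
      exact Nat.dvd_of_mul_dvd_mul_left (by norm_num) this
    have h3 : ¬ 3 ∣ N := fun h => h9 (by obtain ⟨q, rfl⟩ := h; exact ⟨7 * q, by ring⟩)
    have hmem : N ∈ (Nat.divisors 240).filter (fun x => x % 7 = 1 ∧ x % 3 ≠ 0) :=
      Finset.mem_filter.mpr ⟨Nat.mem_divisors.mpr ⟨hN, by norm_num⟩, hmod, fun h => h3 (Nat.dvd_of_mod_eq_zero h)⟩
    have hset : (Nat.divisors 240).filter (fun x => x % 7 = 1 ∧ x % 3 ≠ 0) = {1, 8} := by decide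
    rw [hset, Finset.mem_insert, Finset.mem_singleton] at hmem
    omega
  have hm2 : 2 ≤ m := by omega
  -- the values off the conjugates of `E`
  have hval : ∀ g, ¬ D.InE g → f g = 1 + (m : ℂ) * (1 + (D.χ : G → ℂ) g) := by
    intro g hg
    have h := hTsum g
    have h3 : ∑ Z ∈ Finset.univ \ T, (n Z : ℂ) * (Z : G → ℂ) g = 0 := Finset.sum_eq_zero fun Z hZ => by
      have h0 := (Finset.sum_eq_zero_iff.mp hS) Z hZ
      rcases mul_eq_zero.mp h0 with h1 | h1
      · rw [h1, Nat.cast_zero, zero_mul]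
      · exact absurd h1 (hdg0 Z).ne'
    have h4 : ∑ Z ∈ 𝒲, ((1 + c : ℕ) : ℂ) * (Z : G → ℂ) g = (m : ℂ) * (1 + (D.χ : G → ℂ) g) := by
      rw [Finset.sum_congr rfl (g := fun _ => 1 + (D.χ : G → ℂ) g) fun Z hZ => by
        rw [hc0, add_zero, Nat.cast_one, one_mul]
        obtain ⟨j, -, rfl⟩ := Finset.mem_image.mp hZ
        exact D.W_off j hg, Finset.sum_const, nsmul_eq_mul]
    rw [h3, h4, hc0] at h
    rw [h]; push_cast; ring
  choose μ hμ using D.chi_int
  set v : G → ℤ := fun g => 1 + μ g with hv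
  have hvc : ∀ g, ((v g : ℤ) : ℂ) = 1 + (D.χ : G → ℂ) g := fun g => by rw [hv, hμ]; push_cast; rfl
  have hv1 : v 1 = p + 1 := by
    have h := hvc 1
    rw [D.deg] at h
    have h' : ((v 1 : ℤ) : ℂ) = (((p : ℤ) + 1 : ℤ) : ℂ) := by rw [h]; push_cast; ring
    exact_mod_cast h'
  have hvp : ∀ g, p ∣ orderOf g → v g = 1 := fun g hg => by
    have h := hvc g
    rw [D.chi_psing hg, add_zero] at h
    exact_mod_cast h
  have hvE : ∀ g, D.InE g → v g = 2 := fun g hg => by
    obtain ⟨b, hb, hconj⟩ := hg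
    have h := hvc g
    rw [(CfsgLib.Char.isClassFunction_iff.mp (CfsgLib.Char.isClassFunction_of_isIrr D.χ.2) _ _ hconj).symm,
      D.chi_el hb] at h
    have h' : ((v g : ℤ) : ℂ) = ((2 : ℤ) : ℂ) := by rw [h]; norm_num
    exact_mod_cast h'
  have hvR : ∀ g, g ≠ 1 → ¬ p ∣ orderOf g → ¬ D.InE g → 0 ≤ v g ∧ v g ≤ p := by
    intro g hg1 hgp hgE
    refine ⟨?_, ?_⟩
    · have h := hval g hgE
      have h2 : f g = ((Complex.normSq ((θ : G → ℂ) g) : ℝ) : ℂ) := by
        rw [hf, Pi.mul_apply, Complex.mul_conj]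
      rw [h2, ← hvc] at h
      have h3 : Complex.normSq ((θ : G → ℂ) g) = 1 + (m : ℝ) * (v g : ℝ) := by exact_mod_cast h
      have h4 : (0 : ℤ) ≤ 1 + (m : ℤ) * v g := by
        have := Complex.normSq_nonneg ((θ : G → ℂ) g)
        rw [h3] at this
        exact_mod_cast this
      by_contra hneg
      have : (m : ℤ) * v g ≤ -(m : ℤ) := by nlinarith
      omega
    · have hle := CfsgLib.Char.norm_char_le (CfsgLib.Char.isCharacter_of_isIrr D.χ.2) g
      rw [hμ, D.deg, Complex.natCast_re, Complex.norm_intCast] at hle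
      have h5 : μ g ≤ p := by
        have := (le_abs_self ((μ g : ℤ) : ℝ)).trans hle
        exact_mod_cast this
      have h6 : μ g ≠ p := fun h => hg1 (by
        have := D.simple
        refine CfsgLib.SmallGroups.BrauerFew.eq_one_of_value_eq_degree hχ1 ?_
        rw [hμ, h, D.deg]; simp)
      simp only [hv]; omega
  -- the two identities
  have hχsum : ∑ g : G, (D.χ : G → ℂ) g = 0 := by
    have h := D.inner_chi_one
    rw [CfsgLib.Char.classInner_one_right] at h
    exact (mul_eq_zero.mp h).resolve_left (inv_ne_zero CfsgLib.Char.card_ne_zero')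
  have hχsq : ∑ g : G, (D.χ : G → ℂ) g * (D.χ : G → ℂ) g = (Nat.card G : ℂ) := by
    have h := CfsgLib.Char.card_mul_classInner (D.χ : G → ℂ) (D.χ : G → ℂ)
    rw [CfsgLib.Char.classInner_irr_self D.χ.2, mul_one] at h
    rw [h]
    exact Finset.sum_congr rfl fun g _ => by rw [D.conj_chi]
  have hsumv : (∑ g, v g : ℤ) = Nat.card G := by
    have h : ((∑ g, v g : ℤ) : ℂ) = ((Nat.card G : ℤ) : ℂ) := by
      push_cast
      simp only [hvc, Finset.sum_add_distrib, hχsum, Finset.sum_const, Finset.card_univ, nsmul_one, add_zero,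
        Nat.card_eq_fintype_card]
    exact_mod_cast h
  have hsumw : (∑ g, v g * ((p : ℤ) + 1 - v g) : ℤ) = ((p : ℤ) - 1) * Nat.card G := by
    have h : ((∑ g, v g * ((p : ℤ) + 1 - v g) : ℤ) : ℂ) = ((((p : ℤ) - 1) * Nat.card G : ℤ) : ℂ) := by
      push_cast
      simp only [hvc]
      rw [Finset.sum_congr rfl fun g _ => show (1 + (D.χ : G → ℂ) g) * ((p : ℂ) + 1 - (1 + (D.χ : G → ℂ) g)) =
        (p : ℂ) + ((p : ℂ) - 1) * (D.χ : G → ℂ) g - (D.χ : G → ℂ) g * (D.χ : G → ℂ) g by ring,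
        Finset.sum_sub_distrib, Finset.sum_add_distrib, ← Finset.mul_sum, hχsum, hχsq, Finset.sum_const,
        Finset.card_univ, nsmul_eq_mul, ← Nat.card_eq_fintype_card]
      ring
    exact_mod_cast h
  set A := Finset.univ.filter (fun g : G => p ∣ orderOf g) with hA
  set B := Finset.univ.filter D.InE with hBdef
  set Rs := ((Finset.univ.erase (1 : G)) \ A) \ B with hRs
  have hsplit : ∀ F : G → ℤ, ∑ g, F g = F 1 + ∑ g ∈ A, F g + ∑ g ∈ B, F g + ∑ g ∈ Rs, F g := by
    intro F
    have hA1 : A ⊆ Finset.univ.erase 1 := fun g hg => by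
      refine Finset.mem_erase.mpr ⟨fun h => ?_, Finset.mem_univ _⟩
      rw [hA, Finset.mem_filter, h, orderOf_one] at hg
      exact hp.out.not_dvd_one hg.2
    have hB1 : B ⊆ (Finset.univ.erase 1) \ A := fun g hg => by
      rw [hBdef, Finset.mem_filter] at hg
      obtain ⟨b, hb, hconj⟩ := hg.2
      refine Finset.mem_sdiff.mpr ⟨Finset.mem_erase.mpr ⟨fun h => ?_, Finset.mem_univ _⟩, fun h => ?_⟩
      · subst h; exact D.el_ne_one hb (isConj_one_left.mp hconj)
      · rw [hA, Finset.mem_filter] at h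
        exact D.not_dvd_orderOf_el hconj h.2
    rw [← Finset.add_sum_erase Finset.univ F (Finset.mem_univ 1), ← Finset.sum_sdiff hA1, hRs,
      ← Finset.sum_sdiff hB1]
    ring
  have hA' : (p : ℤ) * D.e * A.card = (Nat.card G : ℤ) * ((p : ℤ) - 1) := by
    have h := D.count_psing
    rw [← hA] at h
    have h' : (((p : ℤ) * D.e * A.card : ℤ) : ℂ) = (((Nat.card G : ℤ) * ((p : ℤ) - 1) : ℤ) : ℂ) := by
      push_cast; exact h
    exact_mod_cast h'
  have hB' : (D.e : ℤ) * (2 * B.card) = (Nat.card G : ℤ) * ((D.e : ℤ) - 1) := by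
    have h := D.two_mul_count_InE
    rw [← hBdef, eq_div_iff D.e_ne_zero] at h
    have h' : (((D.e : ℤ) * (2 * B.card) : ℤ) : ℂ) = (((Nat.card G : ℤ) * ((D.e : ℤ) - 1) : ℤ) : ℂ) := by
      push_cast; linear_combination h
    exact_mod_cast h'
  have hsA : ∀ F : G → ℤ, ∀ a : ℤ, (∀ g, p ∣ orderOf g → F g = a) → ∑ g ∈ A, F g = A.card * a := fun F a h => by
    rw [Finset.sum_congr rfl fun g hg => h g (Finset.mem_filter.mp hg).2, Finset.sum_const, nsmul_eq_mul]
  have hsB : ∀ F : G → ℤ, ∀ a : ℤ, (∀ g, D.InE g → F g = a) → ∑ g ∈ B, F g = B.card * a := fun F a h => by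
    rw [Finset.sum_congr rfl fun g hg => h g (Finset.mem_filter.mp hg).2, Finset.sum_const, nsmul_eq_mul]
  have hRmem : ∀ g ∈ Rs, g ≠ 1 ∧ ¬ p ∣ orderOf g ∧ ¬ D.InE g := fun g hg => by
    simpa [hRs, hA, hBdef, and_assoc] using hg
  rw [hsplit, hv1, hsA _ (p : ℤ) (fun g hg => by rw [hvp g hg]; ring),
    hsB _ (2 * ((p : ℤ) - 1)) (fun g hg => by rw [hvE g hg]; ring)] at hsumw
  have hpe : (0 : ℤ) < (p : ℤ) * D.e := by
    have : 0 < p * D.e := Nat.mul_pos hp.out.pos (by omega)
    exact_mod_cast this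
  have hRzero : ∑ g ∈ Rs, v g * ((p : ℤ) + 1 - v g) = 0 := by
    refine (mul_eq_zero.mp (?_ : (p : ℤ) * D.e * (∑ g ∈ Rs, v g * ((p : ℤ) + 1 - v g)) = 0)).resolve_left hpe.ne'
    linear_combination ((p : ℤ) * D.e) * hsumw - (p : ℤ) * hA' - ((p : ℤ) * ((p : ℤ) - 1)) * hB'
  have hvzero : ∀ g ∈ Rs, v g = 0 := by
    intro g hg
    obtain ⟨h1, h2, h3⟩ := hRmem g hg
    have hnn : ∀ g ∈ Rs, 0 ≤ v g * ((p : ℤ) + 1 - v g) := fun g hg => by
      obtain ⟨a, b, c⟩ := hRmem g hg
      obtain ⟨hlo, hhi⟩ := hvR g a b c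
      exact mul_nonneg hlo (by omega)
    have := (Finset.sum_eq_zero_iff_of_nonneg hnn).mp hRzero g hg
    obtain ⟨hlo, hhi⟩ := hvR g h1 h2 h3
    exact (mul_eq_zero.mp this).resolve_right (by omega)
  rw [hsplit, hv1, hsA _ 1 hvp, hsB _ 2 hvE, Finset.sum_eq_zero hvzero] at hsumv
  have hfinal : (Nat.card G : ℤ) = (p : ℤ) * D.e * ((p : ℤ) + 1) := by
    linear_combination (-(p : ℤ) * D.e) * hsumv + hA' + (p : ℤ) * hB'
  have hfinal' : Nat.card G = p * D.e * (p + 1) := by exact_mod_cast hfinal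
  rw [D.card_G] at hfinal'
  exact Nat.eq_of_mul_eq_mul_left (Nat.mul_pos hp.out.pos (by omega)) hfinal'

end Setup

end CfsgLib.PrimeDegreeUnique
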