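import Cfsg.Agent.Lib.PrimeDegreeUnique.Even
import Cfsg.Agent.Lib.PrimeDegreeUnique.Odd
import Cfsg.Agent.Lib.SmallGroups.BrauerFew.Recognition
import Cfsg.Agent.Lib.SmallGroups.PrimeTransitiveSylow
import Cfsg.Agent.Lib.PrimeDegreeTwo.Dichotomy
import Cfsg.Agent.Lib.Classical.Dickson.MinIndex
import Cfsg.Agent.Lib.CharBlocks.PElementValue
import Mathlib.GroupTheory.FiniteAbelian.Duality
import Mathlib.Analysis.Complex.Polynomial.Basic
import Mathlib.RingTheory.RootsOfUnity.AlgebraicallyClosed

/-!
# A unique character of prime degree and a TI complement: the conclusion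
-/

set_option autoImplicit false
set_option maxHeartbeats 1000000

noncomputable section

namespace CfsgLib.PrimeDegreeUnique

open Cfsg Subgroup
open scoped ComplexConjugate

variable {α : Type*} [Fintype α] [DecidableEq α] {p : ℕ} [hp : Fact p.Prime]

/-- A non-trivial element of a Sylow subgroup fixes no point. -/
theorem eq_one_of_fixed (hα : Fintype.card α = p) (G : Subgroup (Equiv.Perm α)) [MulAction.IsPretransitive G α]
    (P : Sylow p G) {x : G} (hx : x ∈ (P : Subgroup G)) {y : α} (hy : (x : Equiv.Perm α) y = y) : x = 1 := by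
  obtain ⟨σ, hσ, hP⟩ := CfsgLib.SmallGroups.exists_sylow_generator hα G P
  obtain ⟨c, -, hc⟩ := CfsgLib.SmallGroups.exists_coord hα hσ y
  rw [hP] at hx
  obtain ⟨i, rfl⟩ := (isOfFinOrder_of_finite σ).mem_zpowers_iff_mem_range_orderOf.mp hx |> Finset.mem_image.mp |>
    fun ⟨i, _, hi⟩ => (⟨i, hi⟩ : ∃ i : ℕ, σ ^ i = x)
  obtain ⟨j, hj⟩ := c.surjective y
  rw [SubmonoidClass.coe_pow, ← hj, CfsgLib.SmallGroups.coord_zpow hc, c.injective.eq_iff, add_eq_left,
    ZMod.natCast_eq_zero_iff] at hy
  refine orderOf_dvd_iff_pow_eq_one.mp ?_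
  rwa [← Subgroup.orderOf_coe, hσ]

/-- The Sylow subgroup is self-centralising. -/
theorem centralizer_sylow (hα : Fintype.card α = p) (G : Subgroup (Equiv.Perm α)) [MulAction.IsPretransitive G α]
    (P : Sylow p G) : centralizer ((P : Subgroup G) : Set G) = (P : Subgroup G) := by
  obtain ⟨σ, hσ, hP⟩ := CfsgLib.SmallGroups.exists_sylow_generator hα G P
  obtain ⟨y⟩ : Nonempty α := Fintype.card_pos_iff.mp (hα ▸ hp.out.pos)
  obtain ⟨c, -, hc⟩ := CfsgLib.SmallGroups.exists_coord hα hσ y
  refine le_antisymm (fun g hg => ?_) (CfsgLib.Blocks.PrimeSylow.le_centralizer P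
    (CfsgLib.SmallGroups.card_sylow_prime_degree hα G P))
  have hcomm : ∀ n : ℕ, σ ^ n * g = g * σ ^ n := fun n =>
    mem_centralizer_iff.mp hg _ (hP ▸ pow_mem (mem_zpowers σ) n)
  obtain ⟨i, hi⟩ := c.surjective ((g : Equiv.Perm α) (c 0))
  have hg' : g = σ ^ i.val := by
    refine Subtype.ext (Equiv.ext fun z => ?_)
    obtain ⟨j, rfl⟩ := c.surjective z
    have h1 : c j = ((σ ^ j.val : G) : Equiv.Perm α) (c 0) := by
      rw [SubmonoidClass.coe_pow, CfsgLib.SmallGroups.coord_zpow hc, zero_add, ZMod.natCast_zmod_val]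
    have h2 : ((σ ^ j.val : G) : Equiv.Perm α) ((g : Equiv.Perm α) (c 0)) =
        (g : Equiv.Perm α) (((σ ^ j.val : G) : Equiv.Perm α) (c 0)) := by
      have := congrArg (fun w : G => (w : Equiv.Perm α) (c 0)) (hcomm j.val)
      simpa using this
    rw [h1, ← h2, ← hi, ← h1]
    rw [SubmonoidClass.coe_pow, SubmonoidClass.coe_pow, CfsgLib.SmallGroups.coord_zpow hc,
      CfsgLib.SmallGroups.coord_zpow hc, ZMod.natCast_zmod_val, ZMod.natCast_zmod_val, add_comm]
  rw [hg', hP]
  exact pow_mem (mem_zpowers σ) _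

/-- A non-trivial normal subgroup contains the Sylow subgroup. -/
theorem sylow_le_normal (hα : Fintype.card α = p) (G : Subgroup (Equiv.Perm α)) [MulAction.IsPretransitive G α]
    (P : Sylow p G) (M : Subgroup G) [hM : M.Normal] (hne : M ≠ ⊥) : (P : Subgroup G) ≤ M := by
  obtain ⟨m, hm, hm1⟩ := M.bot_or_exists_ne_one.resolve_left hne
  obtain ⟨y, hy⟩ : ∃ y, (m : Equiv.Perm α) y ≠ y := by
    by_contra h
    push Not at h
    exact hm1 (Subtype.ext (Equiv.ext h))
  refine CfsgLib.PrimeDegreeTwo.Dichotomy.sylow_le_of_dvd P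
    (CfsgLib.SmallGroups.card_sylow_prime_degree hα G P) M hM ?_
  have hblock : MulAction.IsBlock G (MulAction.orbit M y) := MulAction.IsBlock.orbit_of_normal y
  have hd := hblock.ncard_dvd_card ⟨y, MulAction.mem_orbit_self y⟩
  rw [Nat.card_eq_fintype_card, hα] at hd
  rcases (Nat.dvd_prime hp.out).mp hd with h | h
  · exfalso
    obtain ⟨z, hz⟩ := Set.ncard_eq_one.mp h
    have h1 : y ∈ MulAction.orbit M y := MulAction.mem_orbit_self y
    have h2 : (m : Equiv.Perm α) y ∈ MulAction.orbit M y := ⟨⟨m, hm⟩, rfl⟩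
    rw [hz, Set.mem_singleton_iff] at h1 h2
    exact hy (h2.trans h1.symm)
  · rw [← h, ← MulAction.index_stabilizer]
    exact Subgroup.index_dvd_card _

/-- The statement. -/
theorem main (hα : Fintype.card α = p) (G : Subgroup (Equiv.Perm α)) [MulAction.IsPretransitive G α]
    (huniq : ∃! χ : Cfsg.IrrCharacter G, Cfsg.charDegree (χ : G → ℂ) = p) (P : Sylow p G) (E : Subgroup G)
    (hPE : (P : Subgroup G) ⊔ E = Subgroup.normalizer ((P : Subgroup G) : Set G))
    (hPE' : (P : Subgroup G) ⊓ E = ⊥)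
    (hNE : Nat.card (Subgroup.normalizer (E : Set G)) = 2 * Nat.card E)
    (hTI : ∀ g : G, g ∉ Subgroup.normalizer (E : Set G) → E ⊓ E.map (MulAut.conj g).toMonoidHom = ⊥) :
    (p = 5 ∨ p = 7 ∨ p = 11) ∧ ∃ (F : Type) (_ : Field F) (_ : Fintype F), Fintype.card F = p ∧
      Nonempty (G ≃* Matrix.ProjectiveSpecialLinearGroup (Fin 2) F) := by
  classical
  let _ : Fintype G := Fintype.ofFinite _
  obtain ⟨χ, hχ, hχu⟩ := huniq
  have hdeg : ∀ ψ : IrrCharacter G, (ψ : G → ℂ) 1 = (charDegree (ψ : G → ℂ) : ℂ) := fun ψ =>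
    CfsgLib.Blocks.charDegree_eq (CfsgLib.Char.isCharacter_of_isIrr ψ.2)
  have hχ1 : (χ : G → ℂ) 1 = (p : ℂ) := by rw [hdeg, hχ]
  have hχuniq : ∀ ψ : IrrCharacter G, (ψ : G → ℂ) 1 = (p : ℂ) → ψ = χ := fun ψ h => hχu ψ (by
    rw [hdeg] at h; exact_mod_cast h)
  have hPc : Nat.card (P : Subgroup G) = p := CfsgLib.SmallGroups.card_sylow_prime_degree hα G P
  have hC := centralizer_sylow hα G P
  have hdvd : Nat.card G ∣ p.factorial := by
    have := G.card_subgroup_dvd_card
    rwa [Nat.card_perm, Nat.card_eq_fintype_card (α := α), hα] at this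
  -- the complement is cyclic
  have hEN : E ≤ normalizer ((P : Subgroup G) : Set G) := hPE ▸ le_sup_right
  have hEP : ∀ a ∈ E, a ∈ (P : Subgroup G) → a = 1 := fun a ha haP => by
    have : a ∈ (P : Subgroup G) ⊓ E := ⟨haP, ha⟩
    rwa [hPE', mem_bot] at this
  let φ : E →* (ZMod p)ˣ := (CfsgLib.Blocks.PrimeSylow.rhoU P hPc).comp (inclusion hEN)
  have hφ : Function.Injective φ := by
    rw [injective_iff_map_eq_one]
    intro a ha
    have h1 : CfsgLib.Blocks.PrimeSylow.rho P hPc (inclusion hEN a) = 1 := by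
      rw [← CfsgLib.Blocks.PrimeSylow.coe_rhoU P hPc (inclusion hEN a)]
      exact congrArg Units.val ha
    have h2 := (CfsgLib.Blocks.PrimeSylow.rho_eq_one_iff P hPc _).mp h1
    rw [hC] at h2
    exact Subtype.ext (hEP _ a.2 h2)
  have hcyc : IsCyclic E := isCyclic_of_injective φ hφ
  have hed : Nat.card E ∣ p - 1 := by
    have h := Subgroup.card_dvd_of_injective φ hφ
    rwa [Nat.card_eq_fintype_card (α := (ZMod p)ˣ), ZMod.card_units] at h
  have he2 : 2 ≤ Nat.card E := by
    by_contra h
    have h1 : Nat.card E = 1 := by have := Nat.card_pos (α := E); omega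
    have hE : E = ⊥ := Subgroup.card_eq_one.mp h1
    have hN : normalizer (E : Set G) = ⊤ := by
      rw [hE, eq_top_iff]
      intro g _
      rw [Subgroup.mem_normalizer_iff_map_conj_eq, Subgroup.map_bot]
    rw [hN, Subgroup.card_top, h1, mul_one] at hNE
    have hp2 : p = 2 := (Nat.prime_dvd_prime_iff_eq hp.out Nat.prime_two).mp
      (hNE ▸ CfsgLib.SmallGroups.prime_dvd_card hα G)
    have hs := CfsgLib.SmallGroups.BrauerFew.sum_deg_sq_nat (G := G)
    have hle := Finset.single_le_sum (f := fun ψ : IrrCharacter G => CfsgLib.InvolChar.deg ψ ^ 2)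
      (fun ψ _ => Nat.zero_le _) (Finset.mem_univ χ)
    rw [hs, hNE, ← CfsgLib.SmallGroups.BrauerFew.deg_eq_charDegree χ, hχ, hp2] at hle
    norm_num at hle
  -- perfectness
  have hlamP : ∀ lam : G →* ℂˣ, (P : Subgroup G) ≤ lam.ker := fun lam => by
    refine sylow_le_normal hα G P lam.ker fun hker => ?_
    have hinj : Function.Injective lam := (MonoidHom.ker_eq_bot_iff lam).mp hker
    have hcomm : ∀ a b : G, a * b = b * a := fun a b => hinj (by rw [map_mul, map_mul, mul_comm])
    obtain ⟨n, ρ, hirr, hρ⟩ := χ.2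
    have h1 : (χ : G → ℂ) 1 = 1 := CfsgLib.Char.irr_one_eq_one_of_comm hcomm χ.2
    rw [hχ1] at h1
    exact hp.out.ne_one (by exact_mod_cast h1)
  have hperf : commutator G = ⊤ := by
    by_contra hne
    obtain ⟨g, hg⟩ : ∃ g : G, g ∉ commutator G := by
      by_contra h
      push Not at h
      exact hne (eq_top_iff.mpr fun g _ => h g)
    have hg1 : (Abelianization.of g) ≠ 1 := fun h => hg (by
      rw [← Abelianization.ker_of G]; exact h)
    obtain ⟨μ, hμ⟩ := CommGroup.exists_apply_ne_one_of_hasEnoughRootsOfUnity (Abelianization G) ℂ hg1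
    set lam : G →* ℂˣ := μ.comp Abelianization.of with hlam
    have hunit : ∀ g : G, ((lam g : ℂˣ) : ℂ) * conj ((lam g : ℂˣ) : ℂ) = 1 := fun g => by
      rw [Complex.mul_conj, Complex.normSq_eq_norm_sq]
      have h1 : ((lam g : ℂˣ) : ℂ) ^ orderOf g = 1 := by
        rw [← Units.val_pow_eq_pow_val, ← map_pow, pow_orderOf_eq_one, map_one, Units.val_one]
      rw [CfsgLib.Char.norm_eq_one_of_pow_eq_one' (orderOf_pos g).ne' h1]
      norm_num
    set ψ : G → ℂ := (χ : G → ℂ) * fun g => ((lam g : ℂˣ) : ℂ) with hψ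
    have hψc : IsCharacter G ψ := CfsgLib.Char.isCharacter_mul (CfsgLib.Char.isCharacter_of_isIrr χ.2)
      (CfsgLib.Char.isCharacter_of_isIrr (CfsgLib.Char.isIrrCharacter_units_hom lam))
    have hψirr : IsIrrCharacter G ψ := by
      refine CfsgLib.Char.irr_of_norm_one hψc ?_
      rw [← CfsgLib.Char.classInner_irr_self χ.2, CfsgLib.Char.classInner_def, CfsgLib.Char.classInner_def]
      congr 1
      refine Finset.sum_congr rfl fun g _ => ?_
      rw [hψ, Pi.mul_apply, map_mul]
      linear_combination ((χ : G → ℂ) g * conj ((χ : G → ℂ) g)) * hunit g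
    have hψχ : ψ = (χ : G → ℂ) := congrArg Subtype.val (hχuniq ⟨ψ, hψirr⟩ (by
      show ψ 1 = _
      rw [hψ, Pi.mul_apply, map_one, Units.val_one, mul_one, hχ1]))
    have hEK : E ≤ lam.ker := by
      have hidx : (lam.ker.subgroupOf E).index = 1 := by
        by_contra hne1
        obtain ⟨r, hr, hrd⟩ := Nat.exists_prime_and_dvd hne1
        have := Fact.mk hr
        obtain ⟨S⟩ : Nonempty (Sylow r E) := inferInstance
        refine S.not_dvd_index (hrd.trans (Subgroup.index_dvd_of_le fun a ha => ?_))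
        rw [mem_subgroupOf, MonoidHom.mem_ker]
        obtain ⟨k, hk⟩ := IsPGroup.iff_orderOf.mp S.isPGroup' ⟨a, ha⟩
        rw [Subgroup.orderOf_mk, ← Subgroup.orderOf_coe] at hk
        have hne : (χ : G → ℂ) (a : G) ≠ 0 := fun h0 => by
          have hrp := (Nat.prime_dvd_prime_iff_eq hr hp.out).mp
            (CfsgLib.CharBlocks.dvd_degree_of_apply_eq_zero (CfsgLib.Char.isCharacter_of_isIrr χ.2) hk h0 hχ1)
          have h2 : r ∣ Nat.card E := hrd.trans (Subgroup.index_dvd_card _)
          rw [hrp] at h2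
          have h4 := hp.out.two_le
          have h3 := Nat.le_of_dvd (by omega) (h2.trans hed)
          omega
        have h4 := congrFun hψχ (a : G)
        rw [hψ, Pi.mul_apply] at h4
        exact Units.ext ((mul_eq_left₀ hne).mp h4)
      intro a ha
      have := Subgroup.index_eq_one.mp hidx
      exact (mem_subgroupOf (h := (⟨a, ha⟩ : E))).mp (this ▸ Subgroup.mem_top _)
    have htop : normalizer ((P : Subgroup G) : Set G) ⊔ lam.ker = ⊤ :=
      Sylow.normalizer_sup_eq_top' P (hlamP lam)
    have hle : normalizer ((P : Subgroup G) : Set G) ≤ lam.ker := hPE ▸ sup_le (hlamP lam) hEK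
    rw [sup_eq_right.mpr hle] at htop
    exact hμ (MonoidHom.mem_ker.mp (htop ▸ Subgroup.mem_top g : g ∈ lam.ker))
  -- simplicity
  have hne : Nontrivial G := by
    have : 1 < Nat.card G := lt_of_lt_of_le hp.out.one_lt
      (Nat.le_of_dvd Nat.card_pos (CfsgLib.SmallGroups.prime_dvd_card hα G))
    exact Finite.one_lt_card_iff_nontrivial.mp this
  have hsimple : IsSimpleGroup G := ⟨fun M hM => by
    have := hM
    refine or_iff_not_imp_left.mpr fun hMb => ?_
    have hPM := sylow_le_normal hα G P M hMb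
    have : Group.IsSolvable E := by
      have := hcyc
      exact Group.isSolvable_of_comm fun a b => (IsCyclic.isMulCommutative).is_comm.comm a b
    refine CfsgLib.SmallGroups.BrauerFew.eq_top_of_solvable_sup hperf M E (eq_top_iff.mpr ?_)
    rw [← Sylow.normalizer_sup_eq_top' P hPM]
    refine sup_le ?_ le_sup_right
    show normalizer ((P : Subgroup G) : Set G) ≤ _
    rw [← hPE]
    exact sup_le (hPM.trans le_sup_right) le_sup_left⟩
  -- the parity
  have hteven : Even ((p - 1) / Nat.card E) := by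
    rcases Nat.even_or_odd (Nat.card E) with heven | hodd
    · obtain ⟨a, ha⟩ := hcyc.exists_generator
      have hoa : orderOf a = Nat.card E := orderOf_eq_card_of_forall_mem_zpowers ha
      set π : Equiv.Perm α := ((a : G) : Equiv.Perm α) with hπ
      have hπo : orderOf π = Nat.card E := by rw [hπ, Subgroup.orderOf_coe, Subgroup.orderOf_coe, hoa]
      have hfix : ∀ b : G, b ∈ E → b ≠ 1 → ∀ y z : α, (b : Equiv.Perm α) y = y → (b : Equiv.Perm α) z = z → y = z := by
        intro b hb hb1 y z hy hz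
        by_contra hyz
        obtain ⟨σ, hσ, hP⟩ := CfsgLib.SmallGroups.exists_sylow_generator hα G P
        obtain ⟨c, hc0, hc⟩ := CfsgLib.SmallGroups.exists_coord hα hσ y
        obtain ⟨i, hi⟩ := c.surjective z
        set x : G := σ ^ i.val with hx
        have hxP : x ∈ (P : Subgroup G) := hP ▸ pow_mem (mem_zpowers σ) _
        have hxy : (x : Equiv.Perm α) y = z := by
          rw [hx, SubmonoidClass.coe_pow, ← hc0, CfsgLib.SmallGroups.coord_zpow hc, zero_add, ZMod.natCast_zmod_val, hi]
        have hq : x⁻¹ * (b * x * b⁻¹) ∈ (P : Subgroup G) :=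
          mul_mem (inv_mem hxP) (((mem_normalizer_iff (H := (P : Subgroup G))).mp (hEN hb) x).mp hxP)
        have hqy : ((x⁻¹ * (b * x * b⁻¹) : G) : Equiv.Perm α) y = y := by
          simp only [Subgroup.coe_mul, Subgroup.coe_inv, Equiv.Perm.mul_apply]
          rw [Equiv.Perm.inv_eq_iff_eq.mpr hy.symm, hxy, hz, ← hxy, Equiv.Perm.inv_eq_iff_eq]
        have hq1 := eq_one_of_fixed hα G P hq hqy
        have hbx : b * x = x * b := by
          calc b * x = x * (x⁻¹ * (b * x * b⁻¹)) * b := by group
            _ = x * b := by rw [hq1, mul_one]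
        have hx1 : x ≠ 1 := fun h => hyz (by rw [← hxy, h]; rfl)
        refine hb1 (hEP b hb (hC ▸ mem_centralizer_iff.mpr fun w hw => ?_))
        obtain ⟨n, rfl⟩ := mem_zpowers_iff.mp (show w ∈ zpowers x by
          rw [show zpowers x = (P : Subgroup G) from eq_of_le_of_card_ge (zpowers_le.mpr hxP) (by
            rw [hPc, Nat.card_zpowers]
            have h1 := orderOf_dvd_natCard (⟨x, hxP⟩ : (P : Subgroup G))
            rw [orderOf_mk, hPc] at h1
            exact (((Nat.dvd_prime hp.out).mp h1).resolve_left fun h => hx1 (orderOf_eq_one_iff.mp h)).ge)]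
          exact hw)
        exact ((show Commute b x from hbx).zpow_right n).eq.symm
      have hpow : ∀ n : ℕ, ((((a : G) ^ n : G)) : Equiv.Perm α) = π ^ n := fun n => by rw [hπ, SubmonoidClass.coe_pow]
      have hlen : ∀ n ∈ π.cycleType, n = Nat.card E := by
        intro n hn
        have hdvd' : n ∣ Nat.card E := hπo ▸ Equiv.Perm.dvd_of_mem_cycleType hn
        by_contra hne'
        have hn2 := Equiv.Perm.two_le_of_mem_cycleType hn
        have hlt : n < Nat.card E := lt_of_le_of_ne (Nat.le_of_dvd (by omega) hdvd') hne'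
        obtain ⟨c, τ, hσ, hd, hc, hcard⟩ := Equiv.Perm.mem_cycleType_iff.mp hn
        obtain ⟨y, hy⟩ : c.support.Nonempty := Finset.card_pos.mp (by omega)
        have hy2 : c y ∈ c.support := Equiv.Perm.apply_mem_support.mpr hy
        have hfixc : ∀ w ∈ c.support, (π ^ n) w = w := fun w hw => by
          rw [hσ, hd.commute.mul_pow, Equiv.Perm.mul_apply]
          have hτ : τ w = w := (hd w).resolve_left (Equiv.Perm.mem_support.mp hw)
          rw [Equiv.Perm.pow_apply_eq_self_of_apply_eq_self hτ, ← hcard, ← hc.orderOf, pow_orderOf_eq_one]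
          rfl
        refine Equiv.Perm.mem_support.mp hy (hfix ((a : G) ^ n) (pow_mem a.2 n) ?_ (c y) y ?_ ?_)
        · intro h
          have : orderOf (a : G) ∣ n := orderOf_dvd_of_pow_eq_one h
          rw [Subgroup.orderOf_coe, hoa] at this
          have := Nat.le_of_dvd (by omega) this
          omega
        · rw [hpow]; exact hfixc _ hy2
        · rw [hpow]; exact hfixc _ hy
      have hrep : π.cycleType = Multiset.replicate π.cycleType.card (Nat.card E) :=
        Multiset.eq_replicate_card.mpr hlen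
      have hsign : Equiv.Perm.sign π = 1 := by
        have h1 : (Equiv.Perm.sign.comp G.subtype) (a : G) = 1 :=
          MonoidHom.mem_ker.mp (Abelianization.commutator_subset_ker _ (hperf ▸ Subgroup.mem_top _))
        exact h1
      rw [Equiv.Perm.sign_of_cycleType_eq_replicate (by omega) hrep, if_neg (Nat.not_odd_iff_even.mpr heven),
        neg_one_pow_eq_one_iff_even (by decide), Equiv.Perm.card_fixedPoints, Nat.sub_sub_self π.sum_cycleType_le] at hsign
      have hone : Fintype.card (Function.fixedPoints π) ≤ 1 := Fintype.card_le_one_iff.mpr fun y z =>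
        Subtype.ext (hfix _ a.2 (fun h => by
          have := hoa
          rw [← Subgroup.orderOf_coe, h, orderOf_one] at this
          omega) _ _ y.2 z.2)
      rw [Equiv.Perm.card_fixedPoints, hα] at hone
      have hsum : π.cycleType.sum = π.cycleType.card * Nat.card E := by rw [hrep]; simp
      have hle := π.sum_cycleType_le
      rw [hα] at hle
      have hcase : π.cycleType.sum = p - 1 := by
        rcases (show π.cycleType.sum = p ∨ π.cycleType.sum = p - 1 by omega) with h | h
        · exfalso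
          have h1 : Nat.card E ∣ p := ⟨π.cycleType.card, by rw [← h, hsum, mul_comm]⟩
          rcases (Nat.dvd_prime hp.out).mp h1 with h2 | h2
          · omega
          · have h3 := Nat.le_of_dvd (by have := hp.out.two_le; omega) hed
            omega
        · exact h
      rwa [hcase] at hsign
    · obtain ⟨q, hq⟩ := hed
      rw [hq, Nat.mul_div_cancel_left _ (by omega)]
      rcases hp.out.eq_two_or_odd' with h2 | h2
      · exfalso
        have := Nat.le_of_dvd (by omega) (hq ▸ dvd_mul_right (Nat.card E) q : Nat.card E ∣ p - 1)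
        omega
      · have h3 : Even (p - 1) := Nat.Odd.sub_odd h2 odd_one
        rw [hq, Nat.even_mul] at h3
        exact h3.resolve_left (Nat.not_even_iff_odd.mpr hodd)
  let D : Setup G p :=
    { P := P, hP := hPc, hC := hC, E := E, hN := hPE, hPE := hPE', cyc := hcyc, two_le := he2, dvd := hed,
      teven := hteven, hNE := hNE, hTI := hTI, simple := hsimple, perfect := hperf, χ := χ, deg := hχ1,
      uniq := hχuniq, dvd_fact := hdvd }
  obtain ⟨hpe, hS⟩ : 2 * D.e + 1 = p ∧ Nat.card (Sylow p G) = p + 1 := by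
    rcases Nat.even_or_odd D.e with h | h
    · exact D.main_even h
    · exact D.main_odd h
  obtain ⟨σ, hσ, hPσ⟩ := CfsgLib.SmallGroups.exists_sylow_generator hα G P
  have L : CfsgLib.SmallGroups.BrauerFew.Loc G p σ := ⟨hperf, by rw [← Subgroup.orderOf_coe, hσ], by
    rw [← hPσ, ← hC, hPσ, zpowers_eq_closure, centralizer_closure]⟩
  have hcard : Nat.card G = p * (D.e * (1 * p + 1)) := by rw [D.card_G, hS]; ring
  obtain ⟨F, hFi, hFf, hF, ⟨iso⟩⟩ := L.psl_prime D.e_two_le hpe hcard hS
  refine ⟨?_, F, hFi, hFf, hF, ⟨iso⟩⟩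
  by_contra hnot
  push Not at hnot
  obtain ⟨y⟩ : Nonempty α := Fintype.card_pos_iff.mp (hα ▸ hp.out.pos)
  set H := MulAction.stabilizer G y with hH
  have hidx : H.index = p := by
    rw [hH, MulAction.index_stabilizer_of_transitive, Nat.card_eq_fintype_card, hα]
  have hq : p ∉ ({2, 3, 5, 7, 9, 11} : Finset ℕ) := by
    have := D.e_two_le
    simp only [Finset.mem_insert, Finset.mem_singleton, not_or]
    refine ⟨by omega, by omega, hnot.1, hnot.2.1, fun h => ?_, hnot.2.2⟩
    exact absurd (h ▸ hp.out) (by norm_num)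
  have hmin := (CfsgLib.Classical.Dickson.min_index hF hq).1 (H.map (iso : G →* _)) ?_
  · rw [Subgroup.index_map_equiv H iso, hidx] at hmin
    omega
  · intro h
    have h1 := Subgroup.index_map_equiv H iso
    rw [h, Subgroup.index_top, hidx] at h1
    exact hp.out.ne_one h1.symm

end CfsgLib.PrimeDegreeUnique
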