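import Mathlib.RingTheory.Valuation.ValuationSubring
import Mathlib.LinearAlgebra.FiniteDimensional.Lemmas
import Mathlib.LinearAlgebra.Trace
import Mathlib.LinearAlgebra.Matrix.ToLin
import Mathlib.Algebra.CharP.Lemmas
import Mathlib.Algebra.Polynomial.Eval.Defs
import Mathlib.Algebra.Ring.GeomSum
import Mathlib.Analysis.Complex.Basic
import Mathlib.GroupTheory.SpecificGroups.Cyclic

/-!
# Reduction of integral lattices: fixed vectors of an element of prime order
-/

set_option autoImplicit false

namespace CfsgLib.PrimeDegreeUnique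

open Module Polynomial

/-- For an endomorphism with `N ^ p = 0` the range of `N ^ (p - 1)` has dimension at most `dim / p`. -/
theorem mul_finrank_le {k V : Type*} [Field k] [AddCommGroup V] [Module k V] [FiniteDimensional k V]
    (N : Module.End k V) {p : ℕ} (hp : 0 < p) (hN : N ^ p = 0) :
    p * finrank k (LinearMap.range (N ^ (p - 1))) ≤ finrank k V := by
  set r : ℕ → ℕ := fun i => finrank k (LinearMap.range (N ^ i)) with hr
  set R := r (p - 1) with hR
  have hstep : ∀ i < p, r (i + 1) + R ≤ r i := by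
    intro i hi
    set W := LinearMap.range (N ^ i)
    have h1 := LinearMap.finrank_range_add_finrank_ker (N.domRestrict W)
    have h2 : LinearMap.range (N.domRestrict W) = LinearMap.range (N ^ (i + 1)) := by
      rw [LinearMap.range_domRestrict, pow_succ', Module.End.mul_eq_comp, LinearMap.range_comp]
    rw [h2] at h1
    have h3 : R ≤ finrank k (LinearMap.ker (N.domRestrict W)) := by
      rw [hR, hr]
      have hle : LinearMap.range (N ^ (p - 1)) ≤ W ⊓ LinearMap.ker N := by
        rintro _ ⟨y, rfl⟩
        refine ⟨⟨(N ^ (p - 1 - i)) y, ?_⟩, ?_⟩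
        · rw [← Module.End.mul_apply, ← pow_add, show i + (p - 1 - i) = p - 1 by omega]
        · rw [SetLike.mem_coe, LinearMap.mem_ker, ← Module.End.mul_apply, ← pow_succ',
            show p - 1 + 1 = p by omega, hN, LinearMap.zero_apply]
      refine (Submodule.finrank_mono hle).trans (le_of_eq ?_)
      rw [LinearMap.ker_domRestrict]
      exact (Submodule.comapSubtypeEquivOfLe (inf_le_left : W ⊓ LinearMap.ker N ≤ W)).finrank_eq.symm.trans
        (congrArg (fun S : Submodule k W => finrank k S) (by ext ⟨w, hw⟩; simp [hw]))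
    show finrank k (LinearMap.range (N ^ (i + 1))) + R ≤ finrank k W
    omega
  have htel : ∀ i ≤ p, r i + i * R ≤ r 0 := by
    intro i hi
    induction i with
    | zero => simp
    | succ i ih =>
      have := hstep i (by omega)
      have := ih (by omega)
      rw [Nat.succ_mul]
      omega
  have h0 : r 0 ≤ finrank k V := Submodule.finrank_le _
  have h4 := htel p le_rfl
  show p * R ≤ _
  omega

theorem sub_one_pow_eq_geom_sum {k : Type*} [Field k] {p : ℕ} [Fact p.Prime] [CharP k p] :
    ((X : k[X]) - 1) ^ (p - 1) = ∑ i ∈ Finset.range p, X ^ i := by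
  have hp := (Fact.out : p.Prime).pos
  have h1 : (X : k[X]) - 1 ≠ 0 := by rw [← map_one C]; exact X_sub_C_ne_zero 1
  refine mul_right_cancel₀ h1 ?_
  rw [← pow_succ, Nat.sub_add_cancel hp, geom_sum_mul, sub_pow_char, one_pow]

variable (R : ValuationSubring ℂ) (p : ℕ)

local notation "κ" => IsLocalRing.ResidueField R
local notation "π" => IsLocalRing.residue R

theorem charP_residue [hp : Fact p.Prime] (hR : R.valuation (p : ℂ) < 1) : CharP κ p := by
  refine (CharP.charP_iff_prime_eq_zero hp.out).mpr ?_
  rw [← map_natCast π, IsLocalRing.residue_eq_zero_iff, ValuationSubring.valuation_lt_one_iff]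
  simpa using hR

theorem residue_natCast_ne_zero [hp : Fact p.Prime] (hR : R.valuation (p : ℂ) < 1) {e : ℕ} (he : ¬ p ∣ e) :
    π (e : R) ≠ 0 := by
  have := charP_residue R p hR
  rw [map_natCast, Ne, CharP.cast_eq_zero_iff κ p]
  exact he

/-- The elements of `R` fixed by Frobenius modulo `p`. -/
def frobFixed [hp : Fact p.Prime] : Subring R where
  carrier := {y | (p : R) ∣ y ^ p - y}
  zero_mem' := by simp [zero_pow hp.out.ne_zero]
  one_mem' := by simp
  add_mem' := by
    intro a b ha hb
    obtain ⟨r, hr⟩ := exists_add_pow_prime_eq hp.out a b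
    show (p : R) ∣ (a + b) ^ p - (a + b)
    rw [hr, show a ^ p + b ^ p + (p : R) * a * b * r - (a + b) = (a ^ p - a) + (b ^ p - b) + (p : R) * (a * b * r) by ring]
    exact dvd_add (dvd_add ha hb) (dvd_mul_right _ _)
  mul_mem' := by
    intro a b ha hb
    show (p : R) ∣ (a * b) ^ p - a * b
    rw [mul_pow, show a ^ p * b ^ p - a * b = a ^ p * (b ^ p - b) + b * (a ^ p - a) by ring]
    exact dvd_add (hb.mul_left _) (ha.mul_left _)
  neg_mem' := by
    intro a ha
    show (p : R) ∣ (-a) ^ p - -a
    rcases hp.out.eq_two_or_odd' with h2 | hodd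
    · subst h2
      rw [show (-a) ^ 2 - -a = (a ^ 2 - a) + (2 : R) * a by ring]
      exact dvd_add ha (by push_cast; exact dvd_mul_right _ _)
    · rw [hodd.neg_pow, show -a ^ p - -a = -(a ^ p - a) by ring]
      exact ha.neg_right

/-- A non-unit fixed by Frobenius modulo `p` is divisible by `p`. -/
theorem dvd_of_mem_frobFixed [hp : Fact p.Prime] {y : R} (hy : y ∈ frobFixed R p) (hy' : π y = 0) :
    (p : R) ∣ y := by
  have h : (p : R) ∣ y * (y ^ (p - 1) - 1) := by
    rw [mul_sub, ← pow_succ', Nat.sub_add_cancel hp.out.pos, mul_one]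
    exact hy
  have hu : IsUnit (y ^ (p - 1) - 1) := by
    rw [← IsLocalRing.residue_ne_zero_iff_isUnit, map_sub, map_pow, map_one, hy',
      zero_pow (by have := hp.out.two_le; omega), zero_sub]
    exact neg_ne_zero.mpr one_ne_zero
  exact (hu.dvd_mul_right).mp h

theorem mem_frobFixed_of_pow [hp : Fact p.Prime] {y : R} (hy : y ^ (p - 1) = 1) : y ∈ frobFixed R p := by
  show (p : R) ∣ y ^ p - y
  conv => rhs; rw [← Nat.sub_add_cancel hp.out.pos, pow_succ, hy, one_mul, sub_self]
  exact dvd_zero _

/-- A subspace of `ℂ ^ d` contains integral vectors with independent reductions. -/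
theorem exists_independent_lift {d : ℕ} : ∀ (n : ℕ) (V : Submodule ℂ (Fin d → ℂ)), finrank ℂ V = n →
    ∃ w : Fin n → Fin d → R, (∀ i, (fun j => ((w i j : R) : ℂ)) ∈ V) ∧
      LinearIndependent κ (fun i j => π (w i j))
  | 0, V, _ => ⟨fun i => i.elim0, fun i => i.elim0, linearIndependent_empty_type⟩
  | n + 1, V, hV => by
    classical
    obtain ⟨v, hvV, hv⟩ := Submodule.exists_mem_ne_zero_of_ne_bot (p := V) fun h => by
      rw [h, finrank_bot] at hV; omega
    have : Nonempty (Fin d) := by
      by_contra h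
      rw [not_nonempty_iff] at h
      exact hv (Subsingleton.elim _ _)
    obtain ⟨i₀, hi₀⟩ := Finite.exists_max fun i => R.valuation (v i)
    have hne : v i₀ ≠ 0 := fun h => hv (funext fun i => by
      have := hi₀ i
      rw [h, map_zero, le_zero_iff, map_eq_zero] at this
      exact this)
    have hmem : ∀ i, (v i₀)⁻¹ * v i ∈ R := fun i => by
      rw [← ValuationSubring.valuation_le_one_iff, map_mul, map_inv₀]
      exact inv_mul_le_one_of_le₀ (hi₀ i) zero_le
    set v' : Fin d → R := fun i => ⟨_, hmem i⟩ with hv'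
    have hv'V : (fun j => ((v' j : R) : ℂ)) ∈ V := by
      have := V.smul_mem (v i₀)⁻¹ hvV
      exact this
    have hone : v' i₀ = 1 := Subtype.ext (inv_mul_cancel₀ hne)
    set L : V →ₗ[ℂ] ℂ := (LinearMap.proj i₀).comp V.subtype with hL
    have hsurj : LinearMap.range L = ⊤ := by
      refine LinearMap.range_eq_top.mpr fun c => ⟨c • ⟨_, hv'V⟩, ?_⟩
      simp [hL, hone]
    have h1 := LinearMap.finrank_range_add_finrank_ker L
    rw [hsurj, finrank_top, finrank_self, hV] at h1
    obtain ⟨w, hwV, hw⟩ := exists_independent_lift n ((LinearMap.ker L).map V.subtype) (by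
      rw [(Submodule.equivMapOfInjective _ V.injective_subtype _).finrank_eq.symm]; omega)
    have hw' : ∀ i, (fun j => ((w i j : R) : ℂ)) ∈ V ∧ ((w i i₀ : R) : ℂ) = 0 := fun i => by
      obtain ⟨⟨y, hy⟩, hyL, hyeq⟩ := hwV i
      have hyeq' : y = fun j => ((w i j : R) : ℂ) := hyeq
      have hyL' : y i₀ = 0 := hyL
      subst hyeq'
      exact ⟨hy, hyL'⟩
    refine ⟨Fin.cons v' w, Fin.cases hv'V fun i => (hw' i).1, ?_⟩
    have heq : (fun i j => π ((Fin.cons v' w : Fin (n + 1) → Fin d → R) i j)) =
        Fin.cons (fun j => π (v' j)) (fun i j => π (w i j)) :=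
      funext (Fin.cases rfl fun i => rfl)
    rw [heq, linearIndependent_finCons]
    refine ⟨hw, fun h => ?_⟩
    have hle : Submodule.span κ (Set.range fun i j => π (w i j)) ≤ LinearMap.ker (LinearMap.proj i₀ : (Fin d → κ) →ₗ[κ] κ) := by
      rw [Submodule.span_le]
      rintro _ ⟨i, rfl⟩
      show π (w i i₀) = 0
      rw [show w i i₀ = 0 from Subtype.ext (hw' i).2, map_zero]
    have h0 : π (v' i₀) = 0 := hle h
    rw [hone, map_one] at h0
    exact one_ne_zero h0

variable {R p} {G : Type*} [Group G]

/-- Matrices over the residue field. -/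
noncomputable def redHom {d : ℕ} (B : G →* Matrix (Fin d) (Fin d) R) : G →* Matrix (Fin d) (Fin d) κ :=
  (π).mapMatrix.toMonoidHom.comp B

theorem redHom_apply {d : ℕ} (B : G →* Matrix (Fin d) (Fin d) R) (g : G) : redHom B g = (B g).map π := rfl

/-- The rank of the sum over a subgroup of order `p` after reduction. -/
theorem mul_finrank_sum_le [hp : Fact p.Prime] (hR : R.valuation (p : ℂ) < 1) (P : Subgroup G) [Fintype P]
    (hP : Nat.card P = p) {d : ℕ} (B : G →* Matrix (Fin d) (Fin d) R) :
    p * finrank κ (LinearMap.range (Matrix.toLin' (∑ y : P, redHom B y))) ≤ d := by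
  classical
  have := charP_residue R p hR
  obtain ⟨x, hx⟩ := (isCyclic_of_prime_card hP).exists_generator
  have hox : orderOf x = p := (orderOf_eq_card_of_forall_mem_zpowers hx).trans hP
  set M := redHom B (x : G) with hM
  have hMp : M ^ p = 1 := by
    rw [hM, ← map_pow, show ((x : G)) ^ p = 1 by rw [← SubmonoidClass.coe_pow, ← hox, pow_orderOf_eq_one]; rfl, map_one]
  have hsum : ∑ y : P, redHom B y = ∑ i ∈ Finset.range p, M ^ i := by
    symm
    refine Finset.sum_bij (fun i _ => x ^ i) (fun _ _ => Finset.mem_univ _) (fun i hi j hj h => ?_)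
      (fun y _ => ?_) fun i _ => ?_
    · exact pow_injOn_Iio_orderOf (by simpa [hox] using Finset.mem_range.mp hi)
        (by simpa [hox] using Finset.mem_range.mp hj) h
    · obtain ⟨i, hi, rfl⟩ := Finset.mem_image.mp ((IsOfFinOrder.mem_zpowers_iff_mem_range_orderOf
        (isOfFinOrder_of_finite x)).mp (hx y))
      exact ⟨i, by rwa [← hox], rfl⟩
    · rw [hM, ← map_pow, SubmonoidClass.coe_pow]
  have hgeom : ∑ i ∈ Finset.range p, M ^ i = (M - 1) ^ (p - 1) := by
    have := congrArg (aeval M) (sub_one_pow_eq_geom_sum (k := κ) (p := p))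
    simpa using this.symm
  have hnil : (M - 1) ^ p = 0 := by
    have := congrArg (aeval M) (sub_pow_char (p := p) (X : κ[X]) 1)
    simp only [map_pow, map_sub, aeval_X, map_one, one_pow] at this
    rw [this, hMp, sub_self]
  rw [hsum, hgeom]
  have h := mul_finrank_le (Matrix.toLinAlgEquiv' (M - 1)) hp.out.pos (by rw [← map_pow, hnil, map_zero])
  rw [← map_pow, finrank_fin_fun] at h
  exact h

end CfsgLib.PrimeDegreeUnique
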