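import Cfsg.Agent.Lib.PrimeDegreeUnique.Const
import Cfsg.Agent.Lib.PrimeDegreeUnique.Lattice

/-!
# The complement of odd order: the sign of the sum over the Sylow subgroup
-/

set_option autoImplicit false

noncomputable section

namespace CfsgLib.PrimeDegreeUnique

open Cfsg Subgroup Matrix
open scoped ComplexConjugate

local notation "ψ" => ZMod.stdAddChar

namespace Setup

variable {G : Type*} [Group G] [Fintype G] {p : ℕ} [hp : Fact p.Prime] (D : Setup G p)

theorem not_InE_of_mem {x : G} (hx : x ∈ (D.P : Subgroup G)) : ¬ D.InE x := by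
  rintro ⟨b, hb, hconj⟩
  by_cases hx1 : x = 1
  · subst hx1
    exact D.el_ne_one hb (isConj_one_left.mp hconj)
  · exact D.not_dvd_orderOf_el hconj (by rw [D.orderOf_mem hx hx1])

theorem W_mem_P (j : ZMod D.e) {x : G} (hx : x ∈ (D.P : Subgroup G)) (hx1 : x ≠ 1) : D.W j x = 1 := by
  rw [D.W_off j (D.not_InE_of_mem hx), D.chi_psing (by rw [D.orderOf_mem hx hx1]), add_zero]

theorem k_mul_ne (he : Odd D.e) {j : ZMod D.e} (hj : j ≠ 0) : D.k * j ≠ j := fun h => by
  have h2 := D.fixed_two h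
  have hu : IsUnit (2 : ZMod D.e) := by
    rw [show (2 : ZMod D.e) = ((2 : ℕ) : ZMod D.e) by norm_num, ZMod.isUnit_iff_coprime]
    exact Nat.coprime_two_left.mpr he
  rw [← two_mul] at h2
  exact hj (hu.mul_right_eq_zero.mp h2)

theorem W_inv (he : Odd D.e) (j : ZMod D.e) (g : G) : D.W j g⁻¹ = D.W j g := by
  by_cases hj : j = 0
  · subst hj
    simp only [W, D.F_zero, Pi.zero_apply, sub_zero]
    rw [CfsgLib.Char.char_inv (CfsgLib.Char.isCharacter_of_isIrr D.χ.2), D.conj_chi]
  have hch := CfsgLib.Char.isCharacter_of_isIrr (D.isIrr_W (D.k_mul_ne he hj))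
  rw [CfsgLib.Char.char_inv hch]
  by_cases hg : D.InE g
  · obtain ⟨b, hb, hconj⟩ := hg
    rw [(CfsgLib.Char.isClassFunction_iff.mp (CfsgLib.Char.isClassFunction_of_isCharacter hch) _ _ hconj).symm,
      D.W_el j hb, D.k_odd he, map_add, D.conj_psi, D.conj_psi]
    simp only [neg_mul, one_mul, neg_neg]
    ring
  · rw [D.W_off j hg, map_add, map_one, D.conj_chi]

theorem hfree {g : G} (hg : g ∉ normalizer ((D.P : Subgroup G) : Set G)) {x : G} (hx : x ∈ (D.P : Subgroup G))
    (h : g⁻¹ * x * g ∈ normalizer ((D.P : Subgroup G) : Set G)) : x = 1 := by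
  by_contra hx1
  obtain ⟨y, hy, a, ha, hya⟩ := D.dec h
  have hdvd : p ∣ orderOf (g⁻¹ * x * g) := by
    have h1 : orderOf (g⁻¹ * x * g) = orderOf x := by
      have := (MulAut.conj g⁻¹).orderOf_eq x
      simpa using this
    rw [h1, D.orderOf_mem hx hx1]
  by_cases ha1 : a = 1
  · rw [ha1, mul_one] at hya
    have hy1 : y ≠ 1 := fun h1 => hx1 (by
      rw [h1] at hya
      calc x = g * (g⁻¹ * x * g) * g⁻¹ := by group
        _ = 1 := by rw [hya]; group)
    refine hg ((mem_normalizer_iff_map_conj_eq).mpr ?_)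
    rw [← D.zpowers_eq hy hy1, MonoidHom.map_zpowers]
    show zpowers (g * y * g⁻¹) = zpowers y
    rw [← hya, show g * (g⁻¹ * x * g) * g⁻¹ = x by group, D.zpowers_eq hx hx1]
    exact (hya.symm ▸ D.zpowers_eq hy hy1).symm
  · obtain ⟨b, hb, rfl⟩ := D.exists_el' ha ha1
    obtain ⟨w, -, hw⟩ := D.exists_conj_eq hb hy
    rw [hya] at hdvd
    exact D.not_dvd_orderOf_el (isConj_iff.mpr ⟨w, hw⟩) hdvd

/-- An irreducible character other than `1` and the `W j` has a non-positive sum over `P \ 1`. -/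
theorem sum_P_le (he : Odd D.e) [Fintype (D.P : Subgroup G)] (Z : IrrCharacter G)
    (h1 : (Z : G → ℂ) ≠ fun _ => 1) (hW : ∀ j, j ≠ 0 → (Z : G → ℂ) ≠ D.W j) :
    ∃ a d : ℕ, (Z : G → ℂ) 1 = d ∧ ∑ y : (D.P : Subgroup G), (Z : G → ℂ) y = (p : ℂ) * a ∧ p * a ≤ d := by
  classical
  obtain ⟨R, hR⟩ := CfsgLib.CharBlocks.exists_pLocal p
  let _ := Fintype.ofFinite D.E
  obtain ⟨d, B, hB, hd⟩ := exists_intRep R (CfsgLib.Char.isCharacter_of_isIrr Z.2)
  -- roots of unity in `R`
  have hmem : ∀ b : ZMod D.e, (ψ b : ℂ) ∈ R := fun b => by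
    rw [← ValuationSubring.valuation_le_one_iff]
    refine ((pow_eq_one_iff_left (NeZero.ne D.e)).mp ?_).le
    rw [← map_pow, D.psi_pow_e, map_one]
  let r : ZMod D.e → R := fun b => ⟨ψ b, hmem b⟩
  have hr0 : r 0 = 1 := Subtype.ext (AddChar.map_zero_eq_one _)
  have hradd : ∀ b c, r (b + c) = r b * r c := fun b c => Subtype.ext (AddChar.map_add_eq_mul _ b c)
  have hrsum : ∀ c, ∑ b : ZMod D.e, r (b * c) = if c = 0 then (D.e : R) else 0 := fun c => by
    refine Subtype.ext ?_
    have h := D.sum_psi c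
    push_cast
    rw [h]
    split_ifs <;> simp
  have heu : IsUnit (D.e : R) := by
    rw [← IsLocalRing.residue_ne_zero_iff_isUnit]
    exact residue_natCast_ne_zero R p hR D.not_dvd_e
  let ν : ZMod D.e → (D.E →* R) := fun c =>
    { toFun := fun x => r (c * D.lg x)
      map_one' := by rw [D.lg_one, mul_zero, hr0]
      map_mul' := fun x y => by rw [D.lg_mul, mul_add, hradd] }
  -- each eigenvector is a norm
  have hnormal : ∀ a ∈ D.E, ∀ x ∈ (D.P : Subgroup G), a * x * a⁻¹ ∈ (D.P : Subgroup G) := fun a ha x hx =>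
    D.conj_mem_P (D.E_le_N ha) hx
  have hkey : ∀ (c : ZMod D.e) (v : Fin d → R), (∀ x ∈ (D.P : Subgroup G), B x *ᵥ v = v) →
      (∀ b, B (D.el b) *ᵥ v = r (c * b) • v) → ∃ u, v = (∑ y : (D.P : Subgroup G), B y) *ᵥ u := by
    intro c v hvP hvE
    let νG : G → R := fun g => if h : g ∈ D.E then ν c ⟨g, h⟩ else 0
    have hvE' : ∀ a ∈ D.E, B a *ᵥ v = νG a • v := fun a ha => by
      obtain ⟨b, rfl⟩ := D.exists_el ha
      rw [hvE b]
      simp only [νG, dif_pos ha]
      show r (c * b) • v = r (c * D.lg ⟨D.el b, ha⟩) • v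
      rw [D.lg_el]
    suffices hex : ∃ f : G → R, (∀ x ∈ (D.P : Subgroup G), ∀ g, f (x * g) = f g) ∧
        (∀ x ∈ (D.P : Subgroup G), ∀ g, f (g * x) = f g) ∧ (∀ a ∈ D.E, ∀ g, f (a * g) = νG a * f g) ∧
        f 1 = 1 ∧ ∑ g : G, f g⁻¹ • B g = 0 by
      obtain ⟨f, hfl, hfr, hfa, hf1, hzero⟩ := hex
      exact exists_eq_sum_mulVec (D.P : Subgroup G) D.E
        (normalizer ((D.P : Subgroup G) : Set G)) D.P_le_N D.E_le_N (fun n hn => D.dec hn)
        (fun g hg x hx h => D.hfree hg hx h) B νG f hfl hfr hfa hf1 hzero v hvP hvE'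
    have hinj : Function.Injective fun M : Matrix (Fin d) (Fin d) R => M.map R.subtype :=
      fun M M' h => Matrix.ext fun i j => Subtype.ext (congrFun (congrFun h i) j)
    by_cases hc : c = 0
    · subst hc
      refine ⟨fun _ => 1, fun _ _ _ => rfl, fun _ _ _ => rfl, fun a ha _ => ?_, rfl, hinj ?_⟩
      · simp only [νG, dif_pos ha, mul_one]
        show (1 : R) = r (0 * _)
        rw [zero_mul, hr0]
      · simp only [one_smul]
        show (∑ g : G, B g).map R.subtype = (0 : Matrix (Fin d) (Fin d) R).map R.subtype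
        rw [Matrix.map_zero _ (map_zero _)]
        rw [← sum_char_smul_eq_zero CfsgLib.Char.isIrrCharacter_one Z.2 h1.symm B hB 1]
        simp only [one_smul]
        exact map_sum (R.subtype).mapMatrix (fun g => B g) Finset.univ
    obtain ⟨n, A, hA, hn⟩ := exists_intRep R (CfsgLib.Char.isCharacter_of_isIrr (D.isIrr_W (D.k_mul_ne he hc)))
    have hn' : n < 2 * p := by
      rw [D.W_one] at hn
      have h : n = p + 1 := by exact_mod_cast hn
      have := D.three_le
      omega
    set Φ : ZMod D.e → G → R := fun c' g =>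
      ∑ x : (D.P : Subgroup G), ∑ a : D.E, ν c' a⁻¹ * (A (g * x * a)).trace with hΦ
    have hsym : ∀ g, Φ (-c) g = Φ c g⁻¹ := fun g => by
      simp only [hΦ]
      rw [Finset.sum_comm, Finset.sum_comm (γ := (D.P : Subgroup G))]
      refine Fintype.sum_equiv (Equiv.inv D.E) _ _ fun a => ?_
      refine Fintype.sum_equiv
        { toFun := fun x : (D.P : Subgroup G) =>
            (⟨(a : G)⁻¹ * (x : G)⁻¹ * (a : G), by
              simpa using hnormal _ (inv_mem a.2) _ (inv_mem x.2)⟩ : (D.P : Subgroup G))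
          invFun := fun x : (D.P : Subgroup G) =>
            (⟨(a : G) * (x : G)⁻¹ * (a : G)⁻¹, hnormal _ a.2 _ (inv_mem x.2)⟩ : (D.P : Subgroup G))
          left_inv := fun x => Subtype.ext (by simp [mul_assoc])
          right_inv := fun x => Subtype.ext (by simp [mul_assoc]) } _ _ fun x => ?_
      simp only [Equiv.coe_fn_mk, Equiv.inv_apply, inv_inv, coe_inv]
      congr 1
      · show r (-c * D.lg a⁻¹) = r (c * D.lg a)
        have h2 : D.lg a⁻¹ = -D.lg a := eq_neg_of_add_eq_zero_left (by rw [← D.lg_mul, inv_mul_cancel, D.lg_one])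
        rw [h2, neg_mul_neg]
      · refine Subtype.ext ?_
        rw [hA, hA, ← D.W_inv he c (g * x * a),
          show g⁻¹ * ((a : G)⁻¹ * (x : G)⁻¹ * (a : G)) * (a : G)⁻¹ = g⁻¹ * ((a : G)⁻¹ * (x : G)⁻¹) by group,
          show (g * (x : G) * (a : G))⁻¹ = g * (g⁻¹ * ((a : G)⁻¹ * (x : G)⁻¹)) * g⁻¹ by group]
        exact CfsgLib.Char.isClassFunction_of_isIrr (D.isIrr_W (D.k_mul_ne he hc)) _ _
    have hcc : -c + -c ≠ 0 := fun h => D.k_mul_ne he hc (by
      rw [D.k_odd he, neg_one_mul]
      linear_combination h)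
    have horth : ∑ x : D.E, ν c x⁻¹ * ν (-c) x = 0 := by
      refine Eq.trans ?_ (show ∑ b : ZMod D.e, r (b * (-c + -c)) = 0 by rw [hrsum, if_neg hcc])
      refine Fintype.sum_equiv ⟨D.lg, fun b => ⟨D.el b, D.el_mem b⟩, fun x => Subtype.ext (D.el_lg x), D.lg_el⟩
        _ _ fun x => ?_
      show r (c * D.lg x⁻¹) * r (-c * D.lg x) = r (D.lg x * (-c + -c))
      have h2 : D.lg x⁻¹ = -D.lg x := eq_neg_of_add_eq_zero_left (by rw [← D.lg_mul, inv_mul_cancel, D.lg_one])
      rw [h2, ← hradd]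
      congr 1
      ring
    have hsmall : ∀ g, IsLocalRing.residue R (Φ c g) = 0 := by
      rcases exists_small hR (D.P : Subgroup G) D.E D.hP hnormal hn' A (ν c) (ν (-c))
        (residue_natCast_ne_zero R p hR D.not_dvd_e) horth with h | h
      · exact h
      · intro g
        rw [← inv_inv g, ← hsym]
        exact h g⁻¹
    have hrF : ∀ b, r b ∈ frobFixed R p := fun b => by
      refine mem_frobFixed_of_pow R p (Subtype.ext ?_)
      obtain ⟨q, hq⟩ := D.e_dvd
      push_cast
      rw [hq, pow_mul, D.psi_pow_e, one_pow]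
    have hdiv : ∀ g, (p : R) ∣ Φ c g := fun g => by
      refine dvd_of_mem_frobFixed R p (sum_mem fun x _ => sum_mem fun a _ => mul_mem (hrF _) ?_) (hsmall g)
      by_cases hg : D.InE (g * x * a)
      · obtain ⟨b, hb, hconj⟩ := hg
        rw [show (A (g * x * a)).trace = r (c * b) + r (D.k * c * b) from Subtype.ext (by
          rw [hA, (CfsgLib.Char.isClassFunction_iff.mp (CfsgLib.Char.isClassFunction_of_isIrr
            (D.isIrr_W (D.k_mul_ne he hc))) _ _ hconj).symm, D.W_el c hb]
          rfl)]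
        exact add_mem (hrF _) (hrF _)
      · obtain ⟨m, hm⟩ := D.chi_int (g * x * a)
        rw [show (A (g * x * a)).trace = ((1 + m : ℤ) : R) from Subtype.ext (by
          rw [hA, D.W_off c hg, hm]; push_cast; rfl)]
        exact intCast_mem _ _
    choose q hq using hdiv
    obtain ⟨w, hw⟩ := heu.exists_left_inv
    have hp0 : (p : R) ≠ 0 := Nat.cast_ne_zero.mpr hp.out.ne_zero
    have hqeq : ∀ g g' (t : R), Φ c g = t * Φ c g' → q g = t * q g' := fun g g' t h => by
      rw [hq, hq] at h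
      refine mul_left_cancel₀ hp0 ?_
      rw [h]; ring
    have hΦ1 : Φ c 1 = (p : R) * (D.e : R) := by
      refine Subtype.ext ?_
      simp only [hΦ, AddSubmonoidClass.coe_finsetSum, MulMemClass.coe_mul, one_mul, hA]
      rw [Finset.sum_comm]
      have hin : ∀ b : ZMod D.e, ∑ x : (D.P : Subgroup G), D.W c ((x : G) * D.el b) =
          (p : ℂ) * (if b = 0 then 2 else ψ (c * b) + ψ (-(c * b))) := by
        intro b
        split_ifs with hb
        · subst hb
          rw [← Finset.add_sum_erase Finset.univ _ (Finset.mem_univ (1 : (D.P : Subgroup G))),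
            Finset.sum_congr rfl fun (x : ↥(D.P : Subgroup G)) hx => show D.W c ((x : G) * D.el 0) = 1 by
              rw [D.el_zero, mul_one]
              exact D.W_mem_P c x.2 fun h => Finset.ne_of_mem_erase hx (Subtype.ext h),
            Finset.sum_const, Finset.card_erase_of_mem (Finset.mem_univ _), Finset.card_univ,
            ← Nat.card_eq_fintype_card, D.hP, nsmul_one, Nat.cast_sub hp.out.one_le, D.el_zero,
            OneMemClass.coe_one, mul_one, D.W_one]
          push_cast; ring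
        · rw [Finset.sum_congr rfl fun (x : ↥(D.P : Subgroup G)) _ => show D.W c ((x : G) * D.el b) = D.W c (D.el b) by
            obtain ⟨y, -, hy⟩ := D.exists_conj_eq hb x.2
            rw [← hy]
            exact CfsgLib.Char.isClassFunction_of_isIrr (D.isIrr_W (D.k_mul_ne he hc)) _ _,
            Finset.sum_const, Finset.card_univ, ← Nat.card_eq_fintype_card, D.hP, nsmul_eq_mul, D.W_el c hb,
            D.k_odd he, neg_one_mul, neg_mul]
      have hout : ∀ a : D.E, ∑ x : (D.P : Subgroup G), ((ν c a⁻¹ : R) : ℂ) * D.W c ((x : G) * (a : G)) =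
          ψ (-(c * D.lg a)) * ((p : ℂ) * (if D.lg a = 0 then 2 else ψ (c * D.lg a) + ψ (-(c * D.lg a)))) := fun a => by
        rw [← Finset.mul_sum, ← hin (D.lg a), D.el_lg]
        congr 1
        show (ψ (c * D.lg a⁻¹) : ℂ) = _
        rw [eq_neg_of_add_eq_zero_left (show D.lg a⁻¹ + D.lg a = 0 by rw [← D.lg_mul, inv_mul_cancel, D.lg_one]),
          mul_neg]
      rw [Finset.sum_congr rfl fun a _ => hout a]
      rw [Fintype.sum_equiv ⟨D.lg, fun b => ⟨D.el b, D.el_mem b⟩, fun x => Subtype.ext (D.el_lg x), D.lg_el⟩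
        (fun a : D.E => ψ (-(c * D.lg a)) * ((p : ℂ) * (if D.lg a = 0 then 2 else ψ (c * D.lg a) + ψ (-(c * D.lg a)))))
        (fun b => ψ (-(c * b)) * ((p : ℂ) * (if b = 0 then 2 else ψ (c * b) + ψ (-(c * b))))) fun a => rfl]
      have hterm : ∀ b : ZMod D.e, ψ (-(c * b)) * ((p : ℂ) * (if b = 0 then 2 else ψ (c * b) + ψ (-(c * b)))) =
          (p : ℂ) * 1 + (p : ℂ) * ψ (b * (-c + -c)) := fun b => by
        split_ifs with hb
        · subst hb; simp; ring
        · rw [show b * (-c + -c) = -(c * b) + -(c * b) by ring, AddChar.map_add_eq_mul,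
            mul_left_comm, mul_add, ← AddChar.map_add_eq_mul, neg_add_cancel, AddChar.map_zero_eq_one]
          ring
      rw [Finset.sum_congr rfl fun b _ => hterm b, Finset.sum_add_distrib, ← Finset.mul_sum, ← Finset.mul_sum,
        D.sum_psi, if_neg hcc, Finset.sum_const, Finset.card_univ, ZMod.card, nsmul_one, mul_zero, add_zero]
      rfl
    have hq1 : q 1 = (D.e : R) := mul_left_cancel₀ hp0 ((hq 1).symm.trans hΦ1)
    refine ⟨fun g => w * q g, fun x hx g => ?_, fun x hx g => ?_, fun a ha g => ?_, ?_, hinj ?_⟩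
    · show w * q (x * g) = w * q g
      rw [hqeq (x * g) g 1 ?_, one_mul]
      rw [one_mul]
      simp only [hΦ]
      rw [Finset.sum_comm, Finset.sum_comm (γ := (D.P : Subgroup G))]
      refine Finset.sum_congr rfl fun a _ => ?_
      refine Fintype.sum_equiv (Equiv.mulRight (⟨(a : G) * x * (a : G)⁻¹, hnormal _ a.2 _ hx⟩ : (D.P : Subgroup G)))
        _ _ fun y => ?_
      congr 1
      refine Subtype.ext ?_
      rw [hA, hA, Equiv.coe_mulRight, Subgroup.coe_mul,
        show g * ((y : G) * ((a : G) * x * (a : G)⁻¹)) * (a : G) = x⁻¹ * (x * g * (y : G) * (a : G)) * x⁻¹⁻¹ by group]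
      exact (CfsgLib.Char.isClassFunction_of_isIrr (D.isIrr_W (D.k_mul_ne he hc)) _ _).symm
    · show w * q (g * x) = w * q g
      rw [hqeq (g * x) g 1 ?_, one_mul]
      rw [one_mul]
      simp only [hΦ]
      refine Fintype.sum_equiv (Equiv.mulLeft (⟨x, hx⟩ : (D.P : Subgroup G))) _ _ fun y => ?_
      refine Finset.sum_congr rfl fun a _ => ?_
      simp [mul_assoc]
    · show w * q (a * g) = νG a * (w * q g)
      simp only [νG, dif_pos ha]
      rw [hqeq (a * g) g (ν c ⟨a, ha⟩) ?_, mul_left_comm]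
      simp only [hΦ, Finset.mul_sum]
      refine Finset.sum_congr rfl fun x _ => ?_
      refine Fintype.sum_equiv (Equiv.mulRight (⟨a, ha⟩ : D.E)) _ _ fun b => ?_
      rw [← mul_assoc, ← map_mul]
      congr 1
      · congr 1
        simp only [Equiv.coe_mulRight]
        rw [_root_.mul_inv_rev, ← mul_assoc, mul_inv_cancel, one_mul]
      · refine Subtype.ext ?_
        rw [hA, hA, Equiv.coe_mulRight, Subgroup.coe_mul,
          show a * g * (x : G) * (b : G) = a * (g * (x : G) * ((b : G) * a)) * a⁻¹ by group]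
        exact CfsgLib.Char.isClassFunction_of_isIrr (D.isIrr_W (D.k_mul_ne he hc)) _ _
    · show w * q 1 = 1
      rw [hq1, hw]
    · show (∑ g : G, (w * q g⁻¹) • B g).map R.subtype = (0 : Matrix (Fin d) (Fin d) R).map R.subtype
      rw [Matrix.map_zero _ (map_zero _),
        show (∑ g : G, (w * q g⁻¹) • B g).map R.subtype = ∑ g : G, ((w * q g⁻¹) • B g).map R.subtype from
          map_sum (R.subtype).mapMatrix _ Finset.univ]
      refine smul_right_injective (Matrix (Fin d) (Fin d) ℂ) (Nat.cast_ne_zero.mpr hp.out.ne_zero : (p : ℂ) ≠ 0) ?_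
      show (p : ℂ) • _ = (p : ℂ) • (0 : Matrix (Fin d) (Fin d) ℂ)
      rw [smul_zero]
      rw [Finset.smul_sum]
      have hterm : ∀ g : G, (p : ℂ) • ((w * q g⁻¹) • B g).map R.subtype =
          ∑ x : (D.P : Subgroup G), ∑ a : D.E,
            ((w : ℂ) * ((ν c a⁻¹ : R) : ℂ)) • (D.W c (g⁻¹ * ((x : G) * (a : G))) • (B g).map R.subtype) := by
        intro g
        have h2 : ((p : R) : ℂ) * ((q g⁻¹ : R) : ℂ) = ((Φ c g⁻¹ : R) : ℂ) := by rw [hq]; rfl
        ext i j
        simp only [Matrix.smul_apply, Matrix.map_apply, Matrix.sum_apply, smul_eq_mul, map_mul,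
          ValuationSubring.subtype_apply]
        calc (p : ℂ) * ((w : ℂ) * ((q g⁻¹ : R) : ℂ) * ((B g i j : R) : ℂ))
            = (w : ℂ) * (((p : R) : ℂ) * ((q g⁻¹ : R) : ℂ)) * ((B g i j : R) : ℂ) := by push_cast; ring
          _ = _ := by
            rw [h2]
            simp only [hΦ, AddSubmonoidClass.coe_finsetSum, MulMemClass.coe_mul, hA, Finset.mul_sum, Finset.sum_mul]
            refine Finset.sum_congr rfl fun x _ => Finset.sum_congr rfl fun a _ => ?_
            rw [mul_assoc g⁻¹]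
            ring
      rw [Finset.sum_congr rfl fun g _ => hterm g, Finset.sum_comm]
      refine Finset.sum_eq_zero fun x _ => ?_
      rw [Finset.sum_comm]
      refine Finset.sum_eq_zero fun a _ => ?_
      rw [← Finset.smul_sum, sum_char_smul_eq_zero (D.isIrr_W (D.k_mul_ne he hc)) Z.2 (hW c hc).symm B hB, smul_zero]
  obtain ⟨a, ha, hle⟩ := fixed_le hR (D.P : Subgroup G) D.hP B fun v hv => by
    let π : ZMod D.e → Fin d → R := fun c => ∑ b : ZMod D.e, r (-(c * b)) • (B (D.el b) *ᵥ v)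
    have hπ : ∀ c, ∃ u, π c = (∑ y : (D.P : Subgroup G), B y) *ᵥ u := fun c => by
      refine hkey c (π c) (fun x hx => ?_) fun b => ?_
      · simp only [π, Matrix.mulVec_sum, Matrix.mulVec_smul, Matrix.mulVec_mulVec, ← map_mul]
        refine Finset.sum_congr rfl fun b _ => ?_
        congr 1
        rw [show x * D.el b = D.el b * ((D.el b)⁻¹ * x * (D.el b)) by group, map_mul, ← Matrix.mulVec_mulVec,
          hv _ (by simpa using hnormal _ (inv_mem (D.el_mem b)) x hx)]
      · simp only [π, Matrix.mulVec_sum, Matrix.mulVec_smul, Matrix.mulVec_mulVec, ← map_mul, Finset.smul_sum,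
          smul_smul, ← hradd]
        refine Fintype.sum_equiv (Equiv.addLeft b) _ _ fun b' => ?_
        rw [Equiv.coe_addLeft, D.el_add]
        congr 2
        ring
    choose u hu using hπ
    obtain ⟨w, hw⟩ := heu.exists_left_inv
    refine ⟨w • ∑ c, u c, ?_⟩
    rw [Matrix.mulVec_smul, Matrix.mulVec_sum, Finset.sum_congr rfl fun c _ => (hu c).symm]
    simp only [π]
    rw [Finset.sum_comm, Finset.sum_congr rfl fun b _ => (Finset.sum_smul).symm]
    rw [Finset.sum_congr rfl fun b _ => show (∑ c, r (-(c * b))) • (B (D.el b) *ᵥ v) =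
        (if b = 0 then (D.e : R) • v else 0) by
      rw [Finset.sum_congr rfl fun c _ => show r (-(c * b)) = r (c * -b) by rw [mul_neg], hrsum]
      by_cases hb : b = 0
      · subst hb; simp [D.el_zero]
      · simp [hb]]
    rw [Finset.sum_ite_eq', if_pos (Finset.mem_univ _), smul_smul, hw, one_smul]
  refine ⟨a, d, hd.symm, ?_, hle⟩
  rw [← ha]
  exact Finset.sum_congr rfl fun y _ => (hB _).symm

end Setup

end CfsgLib.PrimeDegreeUnique
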